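import Cfsg.Agent.H730.PairCrd
import Cfsg.Prelude.Def_Solvable

/-!
# Reduction of S4938 to simple groups (helper730)

* `core` : pairs of primes, for a non-abelian minimal normal subgroup with trivial centralizer;
* `strong_pair`, `strong_one` : strong vanishing elements of a non-abelian minimal normal subgroup `N`
  (`x z` vanishes for all `z ∈ C_G(N)`);
* `main` : the second half of S4938; `main_one` : the first half.
-/

set_option autoImplicit false
set_option linter.unusedSectionVars false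

namespace Cfsg.Agent.H730.PairRed

open Cfsg Cfsg.Agent.H713 Cfsg.Agent.H716.VanRed Cfsg.Agent.H730 Cfsg.Agent.H730.Pair Cfsg.Agent.H730.Col
  Cfsg.Agent.H730.PairCrd Subgroup Cfsg.Agent.Characters.Core

universe u

/-- the choice of the coordinate -/
theorem exists_spec {S : Type u} [Group S] [Finite S] [IsSimpleGroup S] (hna : ∃ a b : S, a * b ≠ b * a)
    (hpair : PairRow S) (hg : GRow S) {p q : ℕ} (hp : p.Prime) (hq : q.Prime) (hpq : p ≠ q) {op oq : Prop}
    (hop : op → ¬ p ∣ Nat.card S ∧ HasCop S) (hoq : oq → ¬ q ∣ Nat.card S ∧ HasCop S) :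
    ∃ s : S, VZ S s ∧ (p ∣ Nat.card S → p ∣ (centralizer ({s} : Set S)).index) ∧
      (q ∣ Nat.card S → q ∣ (centralizer ({s} : Set S)).index) ∧ (op → Gen S s) ∧ (oq → Gen S s) := by
  by_cases ho : op ∨ oq
  · have hcop : HasCop S := ho.elim (fun h => (hop h).2) (fun h => (hoq h).2)
    by_cases h1 : p ∣ Nat.card S
    · have hoq' : oq := ho.resolve_left fun h => (hop h).1 h1
      obtain ⟨x, h2, h3, h4⟩ := hg hcop p hp h1
      exact ⟨x, h2, fun _ => h4, fun h => absurd h (hoq hoq').1, fun _ => h3, fun _ => h3⟩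
    · by_cases h5 : q ∣ Nat.card S
      · obtain ⟨x, h2, h3, h4⟩ := hg hcop q hq h5
        exact ⟨x, h2, fun h => absurd h h1, fun _ => h4, fun _ => h3, fun _ => h3⟩
      · obtain ⟨r, hr, hrd, -⟩ := exists_prime_ne hna 0
        obtain ⟨x, h2, h3, h4⟩ := hg hcop r hr hrd
        exact ⟨x, h2, fun h => absurd h h1, fun h => absurd h h5, fun _ => h3, fun _ => h3⟩
  · rw [not_or] at ho
    by_cases h1 : p ∣ Nat.card S
    · by_cases h5 : q ∣ Nat.card S
      · obtain ⟨s, h2, h3, h4⟩ := hpair p q hp hq hpq h1 h5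
        exact ⟨s, h2, fun _ => h3, fun _ => h4, fun h => absurd h ho.1, fun h => absurd h ho.2⟩
      · obtain ⟨r, hr, hrd, hrp⟩ := exists_prime_ne hna p
        obtain ⟨s, h2, h3, h4⟩ := hpair p r hp hr hrp.symm h1 hrd
        exact ⟨s, h2, fun _ => h3, fun h => absurd h h5, fun h => absurd h ho.1, fun h => absurd h ho.2⟩
    · by_cases h5 : q ∣ Nat.card S
      · obtain ⟨r, hr, hrd, hrp⟩ := exists_prime_ne hna q
        obtain ⟨s, h2, h3, h4⟩ := hpair q r hq hr hrp.symm h5 hrd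
        exact ⟨s, h2, fun h => absurd h h1, fun _ => h3, fun h => absurd h ho.1, fun h => absurd h ho.2⟩
      · obtain ⟨r, r', hr, hr', hne, hrd, hrd', -, -⟩ := exists_two_primes hna 0
        obtain ⟨s, h2, h3, h4⟩ := hpair r r' hr hr' hne hrd hrd'
        exact ⟨s, h2, fun h => absurd h h1, fun h => absurd h h5, fun h => absurd h ho.1, fun h => absurd h ho.2⟩

section crd

variable {G : Type u} [Group G] [Finite G] {m : ℕ} {N : Subgroup G} [N.Normal] {T : Fin m → Subgroup G}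
  {e : N ≃* (∀ i, T i)}

theorem VZ.ne_one {S : Type*} [Group S] {s : S} (h : VZ S s) : s ≠ 1 := by
  rintro rfl
  obtain ⟨θ, hθ⟩ := h
  have h1 := hθ 1
  rw [map_one] at h1
  exact isIrr_apply_one_ne_zero θ.2 h1

/-- **Pairs of primes for a minimal normal subgroup with trivial centralizer.** -/
theorem core (C : Crd N T e) (hm : 0 < m) (hC : centralizer (N : Set G) = ⊥) (hpair : ∀ i, PairRow (T i))
    (hg : ∀ i, GRow (T i)) {p q : ℕ} [hp : Fact p.Prime] [hq : Fact q.Prime] (hpq : p ≠ q) (hpG : p ∣ Nat.card G)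
    (hqG : q ∣ Nat.card G) :
    ∃ n : N, (∃ i, VZ (T i) (e n i)) ∧ p ∣ (centralizer ({(n : G)} : Set G)).index ∧
      q ∣ (centralizer ({(n : G)} : Set G)).index := by
  classical
  let x : Fin m := ⟨0, hm⟩
  let _ := C.act
  have htr : ∀ i j : Fin m, ∃ a : G, a • i = j := by
    intro i j
    obtain ⟨a, ha⟩ := C.trans i j
    refine ⟨a, C.inj ?_⟩
    rw [C.act_spec a i, ha]
  have hsimple := C.simple x
  let perm : ℕ → Prop := fun r => ∃ (g : G) (k : ℕ) (i : Fin m), g ^ r ^ k = 1 ∧ g • i ≠ i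
  have hfix : ∀ r : ℕ, ¬ perm r → ∀ (g : G) (k : ℕ), g ^ r ^ k = 1 →
      ∀ i, (T i).map (MulAut.conj g).toMonoidHom = T i := by
    intro r hr g k hk i
    by_contra h
    exact hr ⟨g, k, i, hk, fun h1 => h ((C.smul_eq_iff g i).1 h1)⟩
  obtain ⟨s, hs, hsp, hsq, hop, hoq⟩ := exists_spec (C.na x) (hpair x) (hg x) hp.1 hq.1 hpq
    (op := ¬ p ∣ Nat.card (T x) ∧ ¬ perm p) (oq := ¬ q ∣ Nat.card (T x) ∧ ¬ perm q)
    (fun h => ⟨h.1, hasCop_of_out C hC hpG h.1 (hfix p h.2)⟩) (fun h => ⟨h.1, hasCop_of_out C hC hqG h.1 (hfix q h.2)⟩)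
  -- the cycles
  have hcyc : ∀ r : ℕ, r.Prime → ∃ Δ : Finset (Fin m), x ∈ Δ ∧ Δ.card ≤ r ∧ (perm r →
      ∃ (g : G) (k : ℕ), g ^ r ^ k = 1 ∧ g • x ≠ x ∧ (∀ j ∈ Δ, g • j ∈ Δ) ∧ ∀ j ∈ Δ, g⁻¹ • j ∈ Δ) := by
    intro r hr
    have : Fact r.Prime := ⟨hr⟩
    by_cases h : perm r
    · obtain ⟨g, k, Δ, h1, h2, h3, h4, h5, h6⟩ := exists_cycle htr h x
      exact ⟨Δ, h2, h3, fun _ => ⟨g, k, h1, h4, h5, h6⟩⟩
    · exact ⟨{x}, Finset.mem_singleton_self x, by rw [Finset.card_singleton]; exact hr.one_lt.le,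
        fun h1 => absurd h1 h⟩
  obtain ⟨Δ, hxΔ, hΔc, hΔ⟩ := hcyc p hp.1
  obtain ⟨Δ', hxΔ', hΔc', hΔ'⟩ := hcyc q hq.1
  obtain ⟨col, hcx, hcp, hcq⟩ := exists_col hp.1.one_lt hq.1.one_lt hpq hΔc hΔc' hxΔ hxΔ'
  obtain ⟨n, hnx, hn⟩ := exists_colored C s (VZ.ne_one hs) col hcx
  have hcol : ∀ h ∈ centralizer ({(n : G)} : Set G), ∀ j : Fin m, col (h • j) = col j := fun h hh j =>
    hn _ _ (C.coord_smul h j n (mem_centralizer_singleton_iff.1 hh))
  refine ⟨n, ⟨x, by rw [hnx]; exact hs⟩, ?_, ?_⟩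
  · by_cases h1 : p ∣ Nat.card (T x)
    · have h2 := index_coord_dvd e n x
      rw [hnx] at h2
      exact (hsp h1).trans h2
    · by_cases h2 : perm p
      · obtain ⟨g, k, h3, h4, h5, h6⟩ := hΔ h2
        exact dvd_of_good hcol hcp h3 hxΔ h4 h5 h6
      · exact dvd_of_out C hC hpG h1 (hfix p h2) (by rw [hnx]; exact hop ⟨h1, h2⟩)
  · by_cases h1 : q ∣ Nat.card (T x)
    · have h2 := index_coord_dvd e n x
      rw [hnx] at h2
      exact (hsq h1).trans h2
    · by_cases h2 : perm q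
      · obtain ⟨g, k, h3, h4, h5, h6⟩ := hΔ' h2
        exact dvd_of_good hcol hcq h3 hxΔ' h4 h5 h6
      · exact dvd_of_out C hC hqG h1 (hfix q h2) (by rw [hnx]; exact hoq ⟨h1, h2⟩)

end crd

/-- All simple rows. -/
structure Rows : Prop where
  pair : ∀ (S : Type u) [Group S] [Finite S] [IsSimpleGroup S], (∃ a b : S, a * b ≠ b * a) → PairRow S
  g : ∀ (S : Type u) [Group S] [Finite S] [IsSimpleGroup S], (∃ a b : S, a * b ≠ b * a) → GRow S

section strong

variable {G : Type u} [Group G] [Finite G]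

/-- A non-abelian minimal normal subgroup in the quotient by its centralizer. -/
theorem quot_facts (N : Subgroup G) [N.Normal]
    (hmin : ∀ M : Subgroup G, M.Normal → M ≤ N → M = ⊥ ∨ M = N) (hna : ¬ ∀ x ∈ N, ∀ y ∈ N, Commute x y) :
    (∀ M : Subgroup (G ⧸ centralizer (N : Set G)), M.Normal → M ≤ N.map (QuotientGroup.mk' (centralizer (N : Set G))) →
      M = ⊥ ∨ M = N.map (QuotientGroup.mk' (centralizer (N : Set G)))) ∧
    (¬ ∀ x ∈ N.map (QuotientGroup.mk' (centralizer (N : Set G))),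
      ∀ y ∈ N.map (QuotientGroup.mk' (centralizer (N : Set G))), Commute x y) ∧
    centralizer (N.map (QuotientGroup.mk' (centralizer (N : Set G))) : Set (G ⧸ centralizer (N : Set G))) = ⊥ := by
  set C : Subgroup G := centralizer (N : Set G) with hC
  have hdisj : ∀ x ∈ N, x ∈ C → x = 1 := by
    intro x hx hxC
    rcases hmin (N ⊓ C) inferInstance inf_le_left with h | h
    · have : x ∈ N ⊓ C := ⟨hx, hxC⟩
      rw [h] at this
      exact Subgroup.mem_bot.1 this
    · exfalso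
      apply hna
      intro a ha b hb
      have h1 : a ∈ N ⊓ C := by rw [h]; exact ha
      exact (Subgroup.mem_centralizer_iff.1 h1.2 b hb).symm
  have hcomm : ∀ a b : G, QuotientGroup.mk' C a * QuotientGroup.mk' C b = QuotientGroup.mk' C b * QuotientGroup.mk' C a →
      a * b * a⁻¹ * b⁻¹ ∈ C := by
    intro a b h3
    rw [← QuotientGroup.eq_one_iff]
    have h4 : ((a * b * a⁻¹ * b⁻¹ : G) : G ⧸ C) =
      QuotientGroup.mk' C a * QuotientGroup.mk' C b * (QuotientGroup.mk' C a)⁻¹ * (QuotientGroup.mk' C b)⁻¹ := rfl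
    rw [h4, h3]
    group
  refine ⟨?_, ?_, ?_⟩
  · intro M hM hMN
    rcases hmin (N ⊓ M.comap (QuotientGroup.mk' C)) inferInstance inf_le_left with h | h
    · left
      rw [eq_bot_iff]
      intro y hy
      obtain ⟨n, hn, rfl⟩ := hMN hy
      have h1 : n ∈ N ⊓ M.comap (QuotientGroup.mk' C) := ⟨hn, hy⟩
      rw [h] at h1
      rw [Subgroup.mem_bot.1 h1, map_one]
      exact one_mem _
    · right
      apply le_antisymm hMN
      rintro _ ⟨n, hn, rfl⟩
      have h1 : n ∈ N ⊓ M.comap (QuotientGroup.mk' C) := by rw [h]; exact hn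
      exact h1.2
  · intro h
    apply hna
    intro a ha b hb
    have h1 := h _ ⟨a, ha, rfl⟩ _ ⟨b, hb, rfl⟩
    have h5 := hdisj _ (mul_mem (mul_mem (mul_mem ha hb) (inv_mem ha)) (inv_mem hb)) (hcomm a b h1)
    have h6 : a * b = b * a := by
      have := mul_inv_eq_one.1 h5
      exact mul_inv_eq_iff_eq_mul.1 this
    exact h6
  · rw [eq_bot_iff]
    intro y hy
    obtain ⟨g, rfl⟩ := QuotientGroup.mk'_surjective C y
    rw [Subgroup.mem_bot]
    refine (QuotientGroup.eq_one_iff g).2 ?_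
    rw [hC, Subgroup.mem_centralizer_iff]
    intro n hn
    have h1 : QuotientGroup.mk' C n * QuotientGroup.mk' C g = QuotientGroup.mk' C g * QuotientGroup.mk' C n :=
      Subgroup.mem_centralizer_iff.1 hy _ ⟨n, hn, rfl⟩
    have h2 := hcomm n g h1
    have hN : N.Normal := inferInstance
    have h3 : n * g * n⁻¹ * g⁻¹ ∈ N := by
      have h4 : n * g * n⁻¹ * g⁻¹ = n * (g * n⁻¹ * g⁻¹) := by group
      rw [h4]
      exact N.mul_mem hn (hN.conj_mem _ (N.inv_mem hn) g)
    have h5 := hdisj _ h3 h2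
    exact mul_inv_eq_iff_eq_mul.1 (mul_inv_eq_one.1 h5)

/-- **Strong vanishing elements, pairs of primes.** -/
theorem strong_pair (H : Rows.{u}) (N : Subgroup G) [N.Normal]
    (hmin : ∀ M : Subgroup G, M.Normal → M ≤ N → M = ⊥ ∨ M = N) (hna : ¬ ∀ x ∈ N, ∀ y ∈ N, Commute x y)
    {p q : ℕ} (hp : p.Prime) (hq : q.Prime) (hpq : p ≠ q) (hpG : p ∣ Nat.card (G ⧸ centralizer (N : Set G)))
    (hqG : q ∣ Nat.card (G ⧸ centralizer (N : Set G))) :
    ∃ x ∈ N, (∀ z ∈ centralizer (N : Set G), Van G (x * z)) ∧ p ∣ (centralizer ({x} : Set G)).index ∧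
      q ∣ (centralizer ({x} : Set G)).index := by
  have hpf : Fact p.Prime := ⟨hp⟩
  have hqf : Fact q.Prime := ⟨hq⟩
  obtain ⟨h1, h2, h3⟩ := quot_facts N hmin hna
  set C : Subgroup G := centralizer (N : Set G) with hC
  set π := QuotientGroup.mk' C with hπ
  have hπs : Function.Surjective π := QuotientGroup.mk'_surjective C
  have hNn : (N.map π).Normal := Subgroup.Normal.map inferInstance _ hπs
  obtain ⟨m, T, e, hm, hsimple, hTna, hTinj, hTN, hTn, hconj, htrans, he, hcoord⟩ :=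
    Cfsg.Agent.PermutationGroups.OnanScott.exists_coordinates (N.map π) h1 h2
  have Cr : Crd (N.map π) T e := ⟨hsimple, hTna, hTinj, hTN, hconj, htrans, he, hcoord⟩
  obtain ⟨n, ⟨i, hi⟩, hnp, hnq⟩ := core Cr hm h3
    (fun i => by have := hsimple i; exact H.pair _ (hTna i)) (fun i => by have := hsimple i; exact H.g _ (hTna i))
    hpq hpG hqG
  have hv := Cr.van hi
  obtain ⟨x, hx, hxn⟩ := n.2
  rw [← hxn] at hv hnp hnq
  refine ⟨x, hx, fun z hz => ?_, hnp.trans (index_centralizer_map_dvd π hπs x),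
    hnq.trans (index_centralizer_map_dvd π hπs x)⟩
  refine Van.of_surjective π hπs ?_
  have h4 : π (x * z) = π x := by
    rw [map_mul]
    have : π z = 1 := (QuotientGroup.eq_one_iff z).2 hz
    rw [this, mul_one]
  rw [h4]
  exact hv

/-- the order of `G / C_G(N)` is divisible by a prime different from `p` -/
theorem exists_other (N : Subgroup G) [N.Normal]
    (hmin : ∀ M : Subgroup G, M.Normal → M ≤ N → M = ⊥ ∨ M = N) (hna : ¬ ∀ x ∈ N, ∀ y ∈ N, Commute x y) (p : ℕ) :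
    ∃ q : ℕ, q.Prime ∧ q ∣ Nat.card (G ⧸ centralizer (N : Set G)) ∧ q ≠ p := by
  obtain ⟨h1, h2, h3⟩ := quot_facts N hmin hna
  have hNn : (N.map (QuotientGroup.mk' (centralizer (N : Set G)))).Normal :=
    Subgroup.Normal.map inferInstance _ (QuotientGroup.mk'_surjective _)
  obtain ⟨m, T, e, hm, hsimple, hTna, -, -, -, -, -, -, -⟩ :=
    Cfsg.Agent.PermutationGroups.OnanScott.exists_coordinates _ h1 h2
  have := hsimple ⟨0, hm⟩
  obtain ⟨q, hq, hqd, hqp⟩ := exists_prime_ne (hTna ⟨0, hm⟩) p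
  exact ⟨q, hq, hqd.trans (Subgroup.card_subgroup_dvd_card _), hqp⟩

/-- **Strong vanishing elements, one prime** (helper735's form). -/
theorem strong_one (H : Rows.{u}) (N : Subgroup G) [N.Normal]
    (hmin : ∀ M : Subgroup G, M.Normal → M ≤ N → M = ⊥ ∨ M = N) (hna : ¬ ∀ x ∈ N, ∀ y ∈ N, Commute x y)
    {p : ℕ} (hp : p.Prime) (hpG : p ∣ Nat.card (G ⧸ centralizer (N : Set G))) :
    ∃ x ∈ N, (∀ z ∈ centralizer (N : Set G), Van G (x * z)) ∧ p ∣ (centralizer ({x} : Set G)).index := by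
  obtain ⟨q, hq, hqG, hqp⟩ := exists_other N hmin hna p
  obtain ⟨x, h1, h2, h3, -⟩ := strong_pair H N hmin hna hp hq hqp.symm hpG hqG
  exact ⟨x, h1, h2, h3⟩

end strong

section main

variable {G : Type u} [Group G] [Finite G]

/-- a minimal normal subgroup below a non-trivial normal subgroup -/
theorem exists_minimal (K : Subgroup G) [K.Normal] (hK : K ≠ ⊥) :
    ∃ N : Subgroup G, N.Normal ∧ N ≠ ⊥ ∧ N ≤ K ∧ ∀ M : Subgroup G, M.Normal → M ≤ N → M = ⊥ ∨ M = N := by
  have hfin : {T : Subgroup G | T.Normal ∧ T ≠ ⊥ ∧ T ≤ K}.Finite := Set.toFinite _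
  have hne : {T : Subgroup G | T.Normal ∧ T ≠ ⊥ ∧ T ≤ K}.Nonempty := ⟨K, inferInstance, hK, le_rfl⟩
  obtain ⟨T, ⟨hT0, hTn, hTK⟩, hTmin⟩ := hfin.exists_minimal hne
  refine ⟨T, hT0, hTn, hTK, fun S hS hST => ?_⟩
  by_cases hS0 : S = ⊥
  · exact Or.inl hS0
  · exact Or.inr (le_antisymm hST (hTmin ⟨hS, hS0, hST.trans hTK⟩ hST))

/-- minimal normal subgroups are not abelian -/
theorem not_comm_of_fitting (hF : fittingSubgroup G = ⊥) (N : Subgroup G) [hN : N.Normal] (hN0 : N ≠ ⊥) :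
    ¬ ∀ x ∈ N, ∀ y ∈ N, Commute x y := by
  intro h
  apply hN0
  rw [eq_bot_iff, ← hF]
  let _ : CommGroup N := { (inferInstance : Group N) with
    mul_comm := fun a b => Subtype.ext (h a a.2 b b.2) }
  have h1 : Group.IsNilpotent N := CommGroup.isNilpotent
  exact le_sSup ⟨hN, h1⟩

/-- every prime divisor of `|G|` divides `|G / C_G(N)|` for a minimal normal subgroup `N` -/
theorem exists_min_dvd (hF : fittingSubgroup G = ⊥) {p : ℕ} (hp : p.Prime) (hpG : p ∣ Nat.card G) :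
    ∃ N : Subgroup G, N.Normal ∧ N ≠ ⊥ ∧ (∀ M : Subgroup G, M.Normal → M ≤ N → M = ⊥ ∨ M = N) ∧
      p ∣ Nat.card (G ⧸ centralizer (N : Set G)) := by
  have hpf : Fact p.Prime := ⟨hp⟩
  by_contra hcon
  push Not at hcon
  obtain ⟨y, hy⟩ := exists_prime_orderOf_dvd_card' p hpG
  have hyC : ∀ N : Subgroup G, N.Normal → N ≠ ⊥ → (∀ M : Subgroup G, M.Normal → M ≤ N → M = ⊥ ∨ M = N) →
      y ∈ centralizer (N : Set G) := by
    intro N hN hN0 hmin
    have h1 := hcon N hN hN0 hmin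
    rw [← QuotientGroup.eq_one_iff, ← orderOf_eq_one_iff]
    have h2 : orderOf (y : G ⧸ centralizer (N : Set G)) ∣ p := by
      rw [← hy]
      exact orderOf_map_dvd (QuotientGroup.mk' (centralizer (N : Set G))) y
    rcases (Nat.dvd_prime hp).1 h2 with h3 | h3
    · exact h3
    · exact absurd (h3 ▸ orderOf_dvd_natCard (y : G ⧸ centralizer (N : Set G))) h1
  have hK : normalClosure ({y} : Set G) ≠ ⊥ := by
    intro h
    have h1 : y ∈ normalClosure ({y} : Set G) := subset_normalClosure (Set.mem_singleton y)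
    rw [h, Subgroup.mem_bot] at h1
    rw [h1, orderOf_one] at hy
    exact hp.one_lt.ne hy
  obtain ⟨N, hN, hN0, hNK, hmin⟩ := exists_minimal _ hK
  apply not_comm_of_fitting hF N hN0
  have h1 : N ≤ centralizer (N : Set G) := by
    refine hNK.trans ?_
    refine normalClosure_le_normal ?_
    rw [Set.singleton_subset_iff]
    exact hyC N hN hN0 hmin
  intro a ha b hb
  exact (Subgroup.mem_centralizer_iff.1 (h1 ha) b hb).symm

/-- **The second half of S4938.** -/
theorem main (H : Rows.{u}) (hF : fittingSubgroup G = ⊥) {p q : ℕ} (hp : p.Prime) (hq : q.Prime) (hpq : p ≠ q)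
    (hpG : p ∣ Nat.card G) (hqG : q ∣ Nat.card G) :
    ∃ g : G, Van G g ∧ p ∣ (centralizer ({g} : Set G)).index ∧ q ∣ (centralizer ({g} : Set G)).index := by
  obtain ⟨N, hN, hN0, hmin, hpN⟩ := exists_min_dvd hF hp hpG
  obtain ⟨N', hN', hN0', hmin', hqN'⟩ := exists_min_dvd hF hq hqG
  have hna := not_comm_of_fitting hF N hN0
  have hna' := not_comm_of_fitting hF N' hN0'
  by_cases h1 : q ∣ Nat.card (G ⧸ centralizer (N : Set G))
  · obtain ⟨x, -, h2, h3, h4⟩ := strong_pair H N hmin hna hp hq hpq hpN h1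
    exact ⟨x * 1, h2 1 (one_mem _), by rwa [mul_one], by rwa [mul_one]⟩
  · have hne : N ≠ N' := by
      rintro rfl
      exact h1 hqN'
    have hinf : N ⊓ N' = ⊥ := by
      rcases hmin (N ⊓ N') inferInstance inf_le_left with h | h
      · exact h
      · exfalso
        have h2 : N ≤ N' := by rw [← h]; exact inf_le_right
        rcases hmin' N hN h2 with h3 | h3
        · exact hN0 h3
        · exact hne h3
    have hcomm : ∀ a ∈ N, ∀ b ∈ N', a * b = b * a := by
      intro a ha b hb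
      have h2 : a * b * a⁻¹ * b⁻¹ ∈ N ⊓ N' := by
        refine ⟨?_, ?_⟩
        · have h3 : a * b * a⁻¹ * b⁻¹ = a * (b * a⁻¹ * b⁻¹) := by group
          show a * b * a⁻¹ * b⁻¹ ∈ N
          rw [h3]
          exact N.mul_mem ha (hN.conj_mem _ (N.inv_mem ha) b)
        · exact N'.mul_mem (hN'.conj_mem _ hb a) (N'.inv_mem hb)
      rw [hinf, Subgroup.mem_bot] at h2
      exact mul_inv_eq_iff_eq_mul.1 (mul_inv_eq_one.1 h2)
    obtain ⟨x, hx, hxv, hxp⟩ := strong_one H N hmin hna hp hpN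
    obtain ⟨y, hy, -, hyq⟩ := strong_one H N' hmin' hna' hq hqN'
    have hyC : y ∈ centralizer (N : Set G) :=
      Subgroup.mem_centralizer_iff.2 fun a ha => hcomm a ha y hy
    have hkey : ∀ g ∈ centralizer ({x * y} : Set G), g * x = x * g ∧ g * y = y * g := by
      intro g hg
      have h2 : g * (x * y) = x * y * g := mem_centralizer_singleton_iff.1 hg
      have h3 : x⁻¹ * (g * x * g⁻¹) = y * (g * y * g⁻¹)⁻¹ := by
        have h4 : g * x * g⁻¹ * (g * y * g⁻¹) = x * y := by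
          calc g * x * g⁻¹ * (g * y * g⁻¹) = g * (x * y) * g⁻¹ := by group
            _ = x * y * g * g⁻¹ := by rw [h2]
            _ = x * y := by group
        rw [eq_mul_inv_iff_mul_eq, mul_assoc, h4]
        group
      have h5 : x⁻¹ * (g * x * g⁻¹) ∈ N ⊓ N' := by
        refine ⟨N.mul_mem (N.inv_mem hx) (hN.conj_mem _ hx g), ?_⟩
        show x⁻¹ * (g * x * g⁻¹) ∈ N'
        rw [h3]
        exact N'.mul_mem hy (N'.inv_mem (hN'.conj_mem _ hy g))
      rw [hinf, Subgroup.mem_bot] at h5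
      have h6 : g * x * g⁻¹ = x := (inv_mul_eq_one.1 h5).symm
      have h7 : g * x = x * g := mul_inv_eq_iff_eq_mul.1 h6
      refine ⟨h7, ?_⟩
      rw [h5] at h3
      have h8 : g * y * g⁻¹ = y := (mul_inv_eq_one.1 h3.symm).symm
      exact mul_inv_eq_iff_eq_mul.1 h8
    refine ⟨x * y, hxv y hyC, hxp.trans (index_dvd_of_le ?_), hyq.trans (index_dvd_of_le ?_)⟩
    · exact fun g hg => mem_centralizer_singleton_iff.2 (hkey g hg).1
    · exact fun g hg => mem_centralizer_singleton_iff.2 (hkey g hg).2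

/-- **The first half of S4938.** -/
theorem main_one (H : Rows.{u}) (hF : fittingSubgroup G = ⊥) {p : ℕ} (hp : p.Prime) (hpG : p ∣ Nat.card G) :
    ∃ g : G, Van G g ∧ p ∣ (centralizer ({g} : Set G)).index := by
  obtain ⟨N, hN, hN0, hmin, hpN⟩ := exists_min_dvd hF hp hpG
  obtain ⟨x, -, h2, h3⟩ := strong_one H N hmin (not_comm_of_fitting hF N hN0) hp hpN
  exact ⟨x * 1, h2 1 (one_mem _), by rwa [mul_one]⟩

/-- **S4938 from the rows.** -/
theorem s4938 (H : Rows.{u}) (hF : fittingSubgroup G = ⊥) :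
    (∀ p : ℕ, p.Prime → p ∣ Nat.card G → ∃ g : G, (∃ χ : Cfsg.IrrCharacter G, (χ : G → ℂ) g = 0) ∧
      p ∣ (Subgroup.centralizer ({g} : Set G)).index) ∧
    (∀ p q : ℕ, p.Prime → q.Prime → p ≠ q → p ∣ Nat.card G → q ∣ Nat.card G →
      ∃ g : G, (∃ χ : Cfsg.IrrCharacter G, (χ : G → ℂ) g = 0) ∧
        p * q ∣ (Subgroup.centralizer ({g} : Set G)).index) := by
  refine ⟨fun p hp hpG => main_one H hF hp hpG, fun p q hp hq hpq hpG hqG => ?_⟩
  obtain ⟨g, h1, h2, h3⟩ := main H hF hp hq hpq hpG hqG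
  exact ⟨g, h1, ((Nat.coprime_primes hp hq).2 hpq).mul_dvd_of_dvd_of_dvd h2 h3⟩

end main

end Cfsg.Agent.H730.PairRed
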