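import Cfsg.Agent.H730.PairRow
import Cfsg.Agent.H730.Alt
import Cfsg.Agent.H714.AltFull

/-!
# The alternating rows of `PairRow` (helper730)

`pairRow_alt` : `A_n`, `n ≥ 5`.
-/

set_option autoImplicit false

open Cfsg Equiv Equiv.Perm Cfsg.Agent.H713 Subgroup
open scoped Nat

namespace Cfsg.Agent.H730.AltPair

open Cfsg.Agent.H730 Cfsg.Agent.H730.Pair Cfsg.Agent.H714.AltRow Cfsg.Agent.H621.AltChar

/-- the numbers of fixed points and of points in `2`-cycles are invariant -/
theorem nf_nu_conj {n : ℕ} (σ : Perm (Fin n)) (x y : alternatingGroup (Fin n))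
    (h : (y : Perm (Fin n)) = σ * x * σ⁻¹) : nf (Fin n) y = nf (Fin n) x ∧ nu (Fin n) y = nu (Fin n) x := by
  have hy : ∀ a : Fin n, y • (σ a) = σ (x • a) := by
    intro a
    show (y : Perm (Fin n)) (σ a) = σ ((x : Perm (Fin n)) a)
    rw [h]
    simp
  constructor
  · unfold nf
    refine Nat.card_congr (Equiv.subtypeEquiv σ fun a => ?_).symm
    change x • a = a ↔ y • (σ a) = σ a
    rw [hy]
    exact σ.injective.eq_iff.symm
  · unfold nu
    refine Nat.card_congr (Equiv.subtypeEquiv σ fun a => ?_).symm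
    change (x • a ≠ a ∧ x • x • a = a) ↔ (y • (σ a) ≠ σ a ∧ y • y • (σ a) = σ a)
    rw [hy, hy, σ.injective.ne_iff, σ.injective.eq_iff]

/-- elements without fixed points and with one `2`-cycle -/
theorem vz_three {n : ℕ} (hn : 7 ≤ n) (x : alternatingGroup (Fin n)) (h1 : nf (Fin n) x = 0) (h2 : nu (Fin n) x = 2) :
    VZ ↥(alternatingGroup (Fin n)) x := by
  have h4 := four_pre (n := n) (by omega)
  refine ⟨⟨_, irr_b _ (Fin n) (by simp; omega) h4⟩, fun α => ?_⟩
  obtain ⟨σ, hσ⟩ := exists_conj hn α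
  obtain ⟨h5, h6⟩ := nf_nu_conj σ x (α x) (hσ x)
  rw [h1] at h5
  rw [h2] at h6
  simp [h5, h6]

/-- an even permutation of type `(n - 2, 2)` with its numbers -/
theorem exists_type {n : ℕ} (hn : 8 ≤ n) (he : Even n) :
    ∃ x : alternatingGroup (Fin n), (x : Perm (Fin n)).cycleType = {2, n - 2} ∧ nf (Fin n) x = 0 ∧
      nu (Fin n) x = 2 := by
  classical
  obtain ⟨c, hc⟩ := (exists_with_cycleType_iff (α := Fin n) (m := {n - 2})).2 ⟨by simp, by simp; omega⟩
  have hcs : c.support.card = n - 2 := by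
    have := sum_cycleType c
    rw [hc] at this
    simpa using this.symm
  have hcyc : c.IsCycle := by
    rw [← card_cycleType_eq_one, hc]
    simp
  have hco : orderOf c = n - 2 := by rw [hcyc.orderOf, hcs]
  have h2 : (c.supportᶜ).card = 2 := by
    rw [Finset.card_compl, hcs, Fintype.card_fin]
    omega
  obtain ⟨a, b, hab, habs⟩ := Finset.card_eq_two.1 h2
  have hdis : Perm.Disjoint (swap a b) c := by
    rw [disjoint_iff_disjoint_support, support_swap hab, Finset.disjoint_left]
    intro z hz hz'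
    have : z ∈ c.supportᶜ := by rw [habs]; exact hz
    exact (Finset.mem_compl.1 this) hz'
  have hct : (swap a b * c).cycleType = {2, n - 2} := by
    rw [hdis.cycleType_mul, hc, (swap_isSwap_iff.2 hab).isCycle.cycleType, card_support_swap hab]
    rfl
  have hmem : swap a b * c ∈ alternatingGroup (Fin n) := by
    rw [mem_alternatingGroup, sign_of_cycleType, hct]
    obtain ⟨k, hk⟩ := he
    have h3 : Even (({2, n - 2} : Multiset ℕ).sum + Multiset.card ({2, n - 2} : Multiset ℕ)) := by
      simp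
      exact ⟨k + 1, by omega⟩
    rw [h3.neg_one_pow]
  have hnf : nf (Fin n) (⟨swap a b * c, hmem⟩ : alternatingGroup (Fin n)) = 0 := by
    have h3 := card_fixedBy_alt (⟨swap a b * c, hmem⟩ : alternatingGroup (Fin n))
    rw [← nf_eq] at h3
    rw [h3]
    change n - (swap a b * c).cycleType.sum = 0
    rw [hct]
    simp
    omega
  refine ⟨⟨swap a b * c, hmem⟩, hct, hnf, ?_⟩
  have h3 := nf_mul_self (Ω := Fin n) (⟨swap a b * c, hmem⟩ : alternatingGroup (Fin n))
  rw [hnf, zero_add] at h3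
  rw [← h3, nf_eq, card_fixedBy_alt]
  change n - ((swap a b * c) * (swap a b * c)).cycleType.sum = 2
  have h4 : (swap a b * c) * (swap a b * c) = c ^ 2 := by
    have h5 : swap a b * c = c * swap a b := hdis.commute.eq
    calc (swap a b * c) * (swap a b * c) = (swap a b * c) * (c * swap a b) := by rw [h5]
      _ = swap a b * (c * c) * swap a b := by group
      _ = swap a b * (c ^ 2 * swap a b) := by rw [pow_two, mul_assoc]
      _ = swap a b * (swap a b * c ^ 2) := by
        rw [(hdis.commute.pow_right 2).eq]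
      _ = c ^ 2 := by rw [← mul_assoc, swap_mul_self, one_mul]
  rw [h4, sum_cycleType]
  have h5 : (c ^ 2).support = c.support := by
    rw [hcyc.support_pow_eq_iff, hco]
    intro hd
    have := Nat.le_of_dvd (by norm_num) hd
    omega
  rw [h5, hcs]
  omega

theorem index_of_not_dvd {n : ℕ} {p : ℕ} (hp : p.Prime) (x : ↥(alternatingGroup (Fin n))) {k : ℕ}
    (h1 : p ^ k ∣ Nat.card ↥(alternatingGroup (Fin n)))
    (h2 : ¬ p ^ k ∣ Nat.card (centralizer ({(x : Perm (Fin n))} : Set (Perm (Fin n))))) :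
    p ∣ (centralizer ({x} : Set ↥(alternatingGroup (Fin n)))).index :=
  dvd_index_of_not_dvd hp h1 fun hd => h2 (hd.trans (card_centralizer_alt_dvd x))

theorem card_centralizer_type {n : ℕ} (x : Perm (Fin n)) {m : Multiset ℕ} (hx : x.cycleType = m) :
    Nat.card (centralizer ({x} : Set (Perm (Fin n)))) =
      (n - m.sum)! * m.prod * ∏ a ∈ m.toFinset, (m.count a)! := by
  rw [nat_card_centralizer, hx, Fintype.card_fin]

/-- the order of the centralizer of type `(2, c)` -/
theorem card_two {n c : ℕ} (hc : 3 ≤ c) (hn : n = c + 2 ∨ n = c + 3) (x : Perm (Fin n))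
    (hx : x.cycleType = {2, c}) : Nat.card (centralizer ({x} : Set (Perm (Fin n)))) = 2 * c := by
  rw [card_centralizer_type x hx]
  have hne : c ≠ 2 := by omega
  have h5 : ({2, c} : Multiset ℕ).toFinset = {2, c} := by simp
  rw [h5, Finset.prod_pair (Ne.symm hne)]
  have h6 : Multiset.count 2 ({2, c} : Multiset ℕ) = 1 := by simp [Ne.symm hne]
  have h7 : Multiset.count c ({2, c} : Multiset ℕ) = 1 := by simp [hne]
  rw [h6, h7]
  have h8 : (n - ({2, c} : Multiset ℕ).sum)! = 1 := by
    have h9 : n - ({2, c} : Multiset ℕ).sum = 0 ∨ n - ({2, c} : Multiset ℕ).sum = 1 := by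
      simp
      omega
    rcases h9 with h9 | h9 <;> rw [h9] <;> rfl
  rw [h8]
  simp

/-- all primes divide the index of a centralizer of order dividing `2 c` -/
theorem all_of_two {n c : ℕ} (hn : 8 ≤ n) (hc : 5 ≤ c) (hcn : c + 2 ≤ n) (hev : Even c) (hbd : n ≤ c + 3)
    (x : ↥(alternatingGroup (Fin n)))
    (hx : Nat.card (centralizer ({(x : Perm (Fin n))} : Set (Perm (Fin n)))) = 2 * c) {p : ℕ} (hp : p.Prime)
    (hpn : p ∣ Nat.card ↥(alternatingGroup (Fin n))) :
    p ∣ (centralizer ({x} : Set ↥(alternatingGroup (Fin n)))).index := by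
  have hfact : 2 * Nat.card ↥(alternatingGroup (Fin n)) = n ! := by
    have : Nontrivial (Fin n) := Fin.nontrivial_iff_two_le.2 (by omega)
    rw [two_mul_nat_card_alternatingGroup, Nat.card_perm, Nat.card_fin]
  have hc0 : c ≠ 0 := by omega
  by_cases hp2 : p = 2
  · subst hp2
    refine index_of_not_dvd hp x (k := c.factorization 2 + 2) ?_ ?_
    · have h1 : 2 * 4 * c ∣ n ! := by
        have h2 : 2 * 4 * c ∣ c ! := by
          obtain ⟨d, rfl⟩ : ∃ d, c = d + 1 := ⟨c - 1, by omega⟩
          rw [Nat.factorial_succ, mul_comm]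
          refine Nat.mul_dvd_mul_left _ ?_
          have h3 : 4 ! ∣ d ! := Nat.factorial_dvd_factorial (by omega)
          exact (by decide : 2 * 4 ∣ 4 !).trans h3
        exact h2.trans (Nat.factorial_dvd_factorial (by omega))
      have h2 : 2 ^ (c.factorization 2 + 3) ∣ n ! := by
        refine dvd_trans ?_ h1
        rw [pow_add, mul_comm]
        exact Nat.mul_dvd_mul (by norm_num) (Nat.ordProj_dvd c 2)
      rw [← hfact] at h2
      have h3 : 2 * 2 ^ (c.factorization 2 + 2) ∣ 2 * Nat.card ↥(alternatingGroup (Fin n)) := by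
        refine dvd_trans (dvd_of_eq ?_) h2
        ring
      exact Nat.dvd_of_mul_dvd_mul_left (by norm_num) h3
    · rw [hx]
      intro hd
      have h3 : 2 * 2 ^ (c.factorization 2 + 1) ∣ 2 * c := by
        refine dvd_trans (dvd_of_eq ?_) hd
        ring
      exact Nat.pow_succ_factorization_not_dvd hc0 hp (Nat.dvd_of_mul_dvd_mul_left (by norm_num) h3)
  · have hcop : ∀ k, Nat.Coprime (p ^ k) 2 := fun k =>
      Nat.Coprime.pow_left _ ((Nat.coprime_primes hp Nat.prime_two).2 hp2)
    by_cases hpc : p < c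
    · refine index_of_not_dvd hp x (k := c.factorization p + 1) ?_ ?_
      · exact dvd_card_alt_of_odd (by omega) (hcop _) (pow_succ_dvd_factorial hp hpc (by omega))
      · rw [hx]
        intro hd
        exact Nat.pow_succ_factorization_not_dvd hc0 hp ((hcop _).dvd_of_dvd_mul_left hd)
    · refine index_of_not_dvd hp x (k := 1) (by rwa [pow_one]) ?_
      rw [hx, pow_one]
      intro hd
      have h4 : p ∣ c := by
        have := (hcop 1)
        rw [pow_one] at this
        exact this.dvd_of_dvd_mul_left hd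
      have h5 := Nat.le_of_dvd (by omega) h4
      have h6 : p = c := by omega
      obtain ⟨j, hj⟩ := hev
      have := (Nat.Prime.eq_one_or_self_of_dvd hp 2 ⟨j, by omega⟩)
      omega

/-- **`A_n`, `n ≥ 8`: one `VZ` element whose class size is divisible by all primes.** -/
theorem exists_all {n : ℕ} (hn : 8 ≤ n) : ∃ x : ↥(alternatingGroup (Fin n)), VZ ↥(alternatingGroup (Fin n)) x ∧
    ∀ p : ℕ, p.Prime → p ∣ Nat.card ↥(alternatingGroup (Fin n)) →
      p ∣ (centralizer ({x} : Set ↥(alternatingGroup (Fin n)))).index := by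
  rcases Nat.even_or_odd n with he | ho
  · obtain ⟨x, hx, h1, h2⟩ := exists_type hn he
    refine ⟨x, vz_three (by omega) x h1 h2, fun p hp hpn => ?_⟩
    refine all_of_two hn (c := n - 2) (by omega) (by omega) ?_ (by omega) x
      (card_two (by omega) (by omega) _ hx) hp hpn
    obtain ⟨k, hk⟩ := he
    exact ⟨k - 1, by omega⟩
  · obtain ⟨k, hk⟩ := ho
    obtain ⟨x, hx, -, hc⟩ := Cfsg.Agent.H714.AltMore.exists_vz_type (n := n) (by omega) {2, n - 3}
      (Or.inl (by simp; omega)) (by simp; omega) (by simp; exact ⟨k + 1, by omega⟩)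
    refine ⟨x, hx, fun p hp hpn => ?_⟩
    exact all_of_two hn (c := n - 3) (by omega) (by omega) ⟨k - 1, by omega⟩ (by omega) x
      (card_two (by omega) (by omega) _ hc) hp hpn

theorem PairRow.of_all {S : Type*} [Group S] (h : ∃ x : S, VZ S x ∧ ∀ p : ℕ, p.Prime → p ∣ Nat.card S →
    p ∣ (centralizer ({x} : Set S)).index) : PairRow S := by
  obtain ⟨x, h1, h2⟩ := h
  exact fun p q hp hq _ hpS hqS => ⟨x, h1, h2 p hp hpS, h2 q hq hqS⟩

theorem exists_of_type {n : ℕ} (m : Multiset ℕ) (hm : m.sum ≤ n) (h2 : ∀ a ∈ m, 2 ≤ a)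
    (he : Even (m.sum + Multiset.card m)) :
    ∃ x : ↥(alternatingGroup (Fin n)), orderOf x = m.lcm ∧ (x : Perm (Fin n)).cycleType = m ∧
      Nat.card (centralizer ({(x : Perm (Fin n))} : Set (Perm (Fin n)))) =
        (n - m.sum)! * m.prod * ∏ a ∈ m.toFinset, (m.count a)! := by
  obtain ⟨x, hx⟩ := (exists_with_cycleType_iff (α := Fin n) (m := m)).2 ⟨by rw [Fintype.card_fin]; omega, h2⟩
  have hxs : x ∈ alternatingGroup (Fin n) := by
    rw [mem_alternatingGroup, sign_of_cycleType, hx, he.neg_one_pow]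
  refine ⟨⟨x, hxs⟩, ?_, hx, card_centralizer_type x hx⟩
  rw [Subgroup.orderOf_mk, ← lcm_cycleType, hx]

theorem card_alt (n : ℕ) (hn : 2 ≤ n) : Nat.card ↥(alternatingGroup (Fin n)) = n ! / 2 := by
  have : Nontrivial (Fin n) := Fin.nontrivial_iff_two_le.2 hn
  have h := two_mul_nat_card_alternatingGroup (α := Fin n)
  rw [Nat.card_perm, Nat.card_fin] at h
  omega

theorem prime_mem {p : ℕ} (hp : p.Prime) (l : List ℕ) (h : p ∣ l.prod) (hl : ∀ a ∈ l, a.Prime) : p ∈ l := by
  obtain ⟨a, ha, hpa⟩ := (hp.prime.dvd_prod_iff).1 h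
  rw [(Nat.prime_dvd_prime_iff_eq hp (hl a ha)).1 hpa]
  exact ha

/-- `A₅` -/
theorem pairRow_five : PairRow ↥(alternatingGroup (Fin 5)) := by
  have hcard : Nat.card ↥(alternatingGroup (Fin 5)) = 60 := by rw [card_alt 5 (by norm_num)]; decide
  obtain ⟨x5, o5, -, c5⟩ := exists_of_type (n := 5) {5} (by decide) (by decide) (by decide)
  obtain ⟨x3, o3, -, c3⟩ := exists_of_type (n := 5) {3} (by decide) (by decide) (by decide)
  obtain ⟨x2, o2, -, c2⟩ := exists_of_type (n := 5) {2, 2} (by decide) (by decide) (by decide)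
  have v5 := Cfsg.Agent.H714.AltFull.vz_five (x := x5) (by rintro rfl; rw [orderOf_one] at o5; exact absurd o5 (by decide))
  have v3 := Cfsg.Agent.H714.AltFull.vz_five (x := x3) (by rintro rfl; rw [orderOf_one] at o3; exact absurd o3 (by decide))
  have v2 := Cfsg.Agent.H714.AltFull.vz_five (x := x2) (by rintro rfl; rw [orderOf_one] at o2; exact absurd o2 (by decide))
  have c5' : Nat.card (centralizer ({(x5 : Perm (Fin 5))} : Set (Perm (Fin 5)))) = 5 := by rw [c5]; decide
  have c3' : Nat.card (centralizer ({(x3 : Perm (Fin 5))} : Set (Perm (Fin 5)))) = 6 := by rw [c3]; decide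
  have c2' : Nat.card (centralizer ({(x2 : Perm (Fin 5))} : Set (Perm (Fin 5)))) = 8 := by rw [c2]; decide
  have h52 : 2 ∣ (centralizer ({x5} : Set ↥(alternatingGroup (Fin 5)))).index :=
    index_of_not_dvd Nat.prime_two x5 (k := 1) (by rw [hcard]; decide) (by rw [c5']; decide)
  have h53 : 3 ∣ (centralizer ({x5} : Set ↥(alternatingGroup (Fin 5)))).index :=
    index_of_not_dvd Nat.prime_three x5 (k := 1) (by rw [hcard]; decide) (by rw [c5']; decide)
  have h32 : 2 ∣ (centralizer ({x3} : Set ↥(alternatingGroup (Fin 5)))).index :=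
    index_of_not_dvd Nat.prime_two x3 (k := 2) (by rw [hcard]; decide) (by rw [c3']; decide)
  have h35 : 5 ∣ (centralizer ({x3} : Set ↥(alternatingGroup (Fin 5)))).index :=
    index_of_not_dvd Nat.prime_five x3 (k := 1) (by rw [hcard]; decide) (by rw [c3']; decide)
  have h23 : 3 ∣ (centralizer ({x2} : Set ↥(alternatingGroup (Fin 5)))).index :=
    index_of_not_dvd Nat.prime_three x2 (k := 1) (by rw [hcard]; decide) (by rw [c2']; decide)
  have h25 : 5 ∣ (centralizer ({x2} : Set ↥(alternatingGroup (Fin 5)))).index :=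
    index_of_not_dvd Nat.prime_five x2 (k := 1) (by rw [hcard]; decide) (by rw [c2']; decide)
  intro p q hp hq hpq hpS hqS
  rw [hcard] at hpS hqS
  have hp' := prime_mem hp [2, 2, 3, 5] (by simpa using hpS) (by simp [Nat.prime_two, Nat.prime_three, Nat.prime_five])
  have hq' := prime_mem hq [2, 2, 3, 5] (by simpa using hqS) (by simp [Nat.prime_two, Nat.prime_three, Nat.prime_five])
  simp at hp' hq'
  rcases hp' with rfl | rfl | rfl <;> rcases hq' with rfl | rfl | rfl
  · exact absurd rfl hpq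
  · exact ⟨x5, v5, h52, h53⟩
  · exact ⟨x3, v3, h32, h35⟩
  · exact ⟨x5, v5, h53, h52⟩
  · exact absurd rfl hpq
  · exact ⟨x2, v2, h23, h25⟩
  · exact ⟨x3, v3, h35, h32⟩
  · exact ⟨x2, v2, h25, h23⟩
  · exact absurd rfl hpq

/-- `A₆` -/
theorem pairRow_six : PairRow ↥(alternatingGroup (Fin 6)) := by
  have hcard : Nat.card ↥(alternatingGroup (Fin 6)) = 360 := by rw [card_alt 6 (by norm_num)]; decide
  obtain ⟨x5, o5, -, c5⟩ := exists_of_type (n := 6) {5} (by decide) (by decide) (by decide)
  obtain ⟨x3, o3, -, c3⟩ := exists_of_type (n := 6) {3, 3} (by decide) (by decide) (by decide)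
  obtain ⟨x4, o4, -, c4⟩ := exists_of_type (n := 6) {4, 2} (by decide) (by decide) (by decide)
  have v5 := Cfsg.Agent.H714.AltFull.vz_six (x := x5) (by rw [o5]; decide)
  have v3 := Cfsg.Agent.H714.AltFull.vz_six (x := x3) (by rw [o3]; decide)
  have v4 := Cfsg.Agent.H714.AltFull.vz_six (x := x4) (by rw [o4]; decide)
  have c5' : Nat.card (centralizer ({(x5 : Perm (Fin 6))} : Set (Perm (Fin 6)))) = 5 := by rw [c5]; decide
  have c3' : Nat.card (centralizer ({(x3 : Perm (Fin 6))} : Set (Perm (Fin 6)))) = 18 := by rw [c3]; decide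
  have c4' : Nat.card (centralizer ({(x4 : Perm (Fin 6))} : Set (Perm (Fin 6)))) = 8 := by rw [c4]; decide
  have h52 : 2 ∣ (centralizer ({x5} : Set ↥(alternatingGroup (Fin 6)))).index :=
    index_of_not_dvd Nat.prime_two x5 (k := 1) (by rw [hcard]; decide) (by rw [c5']; decide)
  have h53 : 3 ∣ (centralizer ({x5} : Set ↥(alternatingGroup (Fin 6)))).index :=
    index_of_not_dvd Nat.prime_three x5 (k := 1) (by rw [hcard]; decide) (by rw [c5']; decide)
  have h32 : 2 ∣ (centralizer ({x3} : Set ↥(alternatingGroup (Fin 6)))).index :=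
    index_of_not_dvd Nat.prime_two x3 (k := 2) (by rw [hcard]; decide) (by rw [c3']; decide)
  have h35 : 5 ∣ (centralizer ({x3} : Set ↥(alternatingGroup (Fin 6)))).index :=
    index_of_not_dvd Nat.prime_five x3 (k := 1) (by rw [hcard]; decide) (by rw [c3']; decide)
  have h43 : 3 ∣ (centralizer ({x4} : Set ↥(alternatingGroup (Fin 6)))).index :=
    index_of_not_dvd Nat.prime_three x4 (k := 1) (by rw [hcard]; decide) (by rw [c4']; decide)
  have h45 : 5 ∣ (centralizer ({x4} : Set ↥(alternatingGroup (Fin 6)))).index :=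
    index_of_not_dvd Nat.prime_five x4 (k := 1) (by rw [hcard]; decide) (by rw [c4']; decide)
  intro p q hp hq hpq hpS hqS
  rw [hcard] at hpS hqS
  have hp' := prime_mem hp [2, 2, 2, 3, 3, 5] (by simpa using hpS)
    (by simp [Nat.prime_two, Nat.prime_three, Nat.prime_five])
  have hq' := prime_mem hq [2, 2, 2, 3, 3, 5] (by simpa using hqS)
    (by simp [Nat.prime_two, Nat.prime_three, Nat.prime_five])
  simp at hp' hq'
  rcases hp' with rfl | rfl | rfl <;> rcases hq' with rfl | rfl | rfl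
  · exact absurd rfl hpq
  · exact ⟨x5, v5, h52, h53⟩
  · exact ⟨x3, v3, h32, h35⟩
  · exact ⟨x5, v5, h53, h52⟩
  · exact absurd rfl hpq
  · exact ⟨x4, v4, h43, h45⟩
  · exact ⟨x3, v3, h35, h32⟩
  · exact ⟨x4, v4, h45, h43⟩
  · exact absurd rfl hpq

/-- `A₇` -/
theorem pairRow_seven : PairRow ↥(alternatingGroup (Fin 7)) := by
  have hcard : Nat.card ↥(alternatingGroup (Fin 7)) = 2520 := by rw [card_alt 7 (by norm_num)]; decide
  have p7 : Nat.Prime 7 := by norm_num
  obtain ⟨x7, v7, -, t7⟩ := Cfsg.Agent.H714.AltMore.exists_vz_type (n := 7) (by norm_num) {7} (by decide) (by decide)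
    (by decide)
  obtain ⟨x3, v3, -, t3⟩ := Cfsg.Agent.H714.AltMore.exists_vz_type (n := 7) (by norm_num) {3, 3} (by decide) (by decide)
    (by decide)
  obtain ⟨x4, v4, -, t4⟩ := Cfsg.Agent.H714.AltMore.exists_vz_type (n := 7) (by norm_num) {4, 2} (by decide) (by decide)
    (by decide)
  have c7' : Nat.card (centralizer ({(x7 : Perm (Fin 7))} : Set (Perm (Fin 7)))) = 7 := by
    rw [card_centralizer_type _ t7]; decide
  have c3' : Nat.card (centralizer ({(x3 : Perm (Fin 7))} : Set (Perm (Fin 7)))) = 18 := by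
    rw [card_centralizer_type _ t3]; decide
  have c4' : Nat.card (centralizer ({(x4 : Perm (Fin 7))} : Set (Perm (Fin 7)))) = 8 := by
    rw [card_centralizer_type _ t4]; decide
  have h72 : 2 ∣ (centralizer ({x7} : Set ↥(alternatingGroup (Fin 7)))).index :=
    index_of_not_dvd Nat.prime_two x7 (k := 1) (by rw [hcard]; decide) (by rw [c7']; decide)
  have h73 : 3 ∣ (centralizer ({x7} : Set ↥(alternatingGroup (Fin 7)))).index :=
    index_of_not_dvd Nat.prime_three x7 (k := 1) (by rw [hcard]; decide) (by rw [c7']; decide)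
  have h75 : 5 ∣ (centralizer ({x7} : Set ↥(alternatingGroup (Fin 7)))).index :=
    index_of_not_dvd Nat.prime_five x7 (k := 1) (by rw [hcard]; decide) (by rw [c7']; decide)
  have h32 : 2 ∣ (centralizer ({x3} : Set ↥(alternatingGroup (Fin 7)))).index :=
    index_of_not_dvd Nat.prime_two x3 (k := 2) (by rw [hcard]; decide) (by rw [c3']; decide)
  have h35 : 5 ∣ (centralizer ({x3} : Set ↥(alternatingGroup (Fin 7)))).index :=
    index_of_not_dvd Nat.prime_five x3 (k := 1) (by rw [hcard]; decide) (by rw [c3']; decide)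
  have h37 : 7 ∣ (centralizer ({x3} : Set ↥(alternatingGroup (Fin 7)))).index :=
    index_of_not_dvd p7 x3 (k := 1) (by rw [hcard]; decide) (by rw [c3']; decide)
  have h43 : 3 ∣ (centralizer ({x4} : Set ↥(alternatingGroup (Fin 7)))).index :=
    index_of_not_dvd Nat.prime_three x4 (k := 1) (by rw [hcard]; decide) (by rw [c4']; decide)
  have h47 : 7 ∣ (centralizer ({x4} : Set ↥(alternatingGroup (Fin 7)))).index :=
    index_of_not_dvd p7 x4 (k := 1) (by rw [hcard]; decide) (by rw [c4']; decide)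
  intro p q hp hq hpq hpS hqS
  rw [hcard] at hpS hqS
  have hp' := prime_mem hp [2, 2, 2, 3, 3, 5, 7] (by simpa using hpS)
    (by simp [Nat.prime_two, Nat.prime_three, Nat.prime_five, p7])
  have hq' := prime_mem hq [2, 2, 2, 3, 3, 5, 7] (by simpa using hqS)
    (by simp [Nat.prime_two, Nat.prime_three, Nat.prime_five, p7])
  simp at hp' hq'
  rcases hp' with rfl | rfl | rfl | rfl <;> rcases hq' with rfl | rfl | rfl | rfl
  · exact absurd rfl hpq
  · exact ⟨x7, v7, h72, h73⟩
  · exact ⟨x7, v7, h72, h75⟩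
  · exact ⟨x3, v3, h32, h37⟩
  · exact ⟨x7, v7, h73, h72⟩
  · exact absurd rfl hpq
  · exact ⟨x7, v7, h73, h75⟩
  · exact ⟨x4, v4, h43, h47⟩
  · exact ⟨x7, v7, h75, h72⟩
  · exact ⟨x7, v7, h75, h73⟩
  · exact absurd rfl hpq
  · exact ⟨x3, v3, h35, h37⟩
  · exact ⟨x3, v3, h37, h32⟩
  · exact ⟨x4, v4, h47, h43⟩
  · exact ⟨x3, v3, h37, h35⟩
  · exact absurd rfl hpq

/-- **The alternating groups.** -/
theorem pairRow_alt {n : ℕ} (hn : 5 ≤ n) : PairRow ↥(alternatingGroup (Fin n)) := by
  rcases Nat.lt_or_ge n 8 with h | h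
  · have h1 : n = 5 ∨ n = 6 ∨ n = 7 := by omega
    rcases h1 with rfl | rfl | rfl
    · exact pairRow_five
    · exact pairRow_six
    · exact pairRow_seven
  · exact PairRow.of_all (exists_all h)

end Cfsg.Agent.H730.AltPair
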