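import Cfsg.Agent.H716.VanRed

/-!
# Colourings moved by elements of two prime orders (helper730)

* `Good p Δ col` : the colour classes meeting `Δ` lie in `Δ` and have fewer than `p` elements;
* `exists_col` : a colouring with four colours which is good for two sets `Δ`, `Δ'` of at most `p ≠ q` points;
* `dvd_of_good` : the stabiliser of such a colouring has index divisible by `p`, if `Δ` is moved by a `p`-element.
-/

set_option autoImplicit false

namespace Cfsg.Agent.H730.Col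

open Subgroup Cfsg.Agent.H716.VanRed

section comb

variable {Ω : Type*} [Fintype Ω] [DecidableEq Ω]

/-- the colour classes meeting `Δ` lie in `Δ` and have fewer than `p` elements -/
def Good (p : ℕ) (Δ : Finset Ω) (col : Ω → Fin 4) : Prop :=
  ∀ j ∈ Δ, (∀ k, col k = col j → k ∈ Δ) ∧ (Finset.univ.filter fun k => col k = col j).card < p

/-- the colouring with classes `R`, `Y`, `Z` and the rest -/
def mk (R Y Z : Finset Ω) (j : Ω) : Fin 4 := if j ∈ R then 0 else if j ∈ Y then 1 else if j ∈ Z then 2 else 3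

variable {R Y Z Δ Δ' : Finset Ω} {p q : ℕ}

theorem mk_eq_zero {k : Ω} : mk R Y Z k = 0 ↔ k ∈ R := by
  unfold mk
  split_ifs <;> simp_all

theorem mk_eq_one (hRY : Disjoint R Y) {k : Ω} : mk R Y Z k = 1 ↔ k ∈ Y := by
  unfold mk
  have h := Finset.disjoint_left.1 hRY
  split_ifs with h1 h2 h3
  · simp only [iff_false, Fin.reduceEq, false_iff]
    exact h h1
  · simp [h2]
  · simp [h2]
  · simp [h2]

theorem mk_eq_two (hRZ : Disjoint R Z) (hYZ : Disjoint Y Z) {k : Ω} : mk R Y Z k = 2 ↔ k ∈ Z := by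
  unfold mk
  have h := Finset.disjoint_left.1 hRZ
  have h' := Finset.disjoint_left.1 hYZ
  split_ifs with h1 h2 h3
  · simp only [Fin.reduceEq, false_iff]
    exact h h1
  · simp only [Fin.reduceEq, false_iff]
    exact h' h2
  · simp [h3]
  · simp [h3]

theorem good_mk (hRY : Disjoint R Y) (hRZ : Disjoint R Z) (hYZ : Disjoint Y Z) (hΔ : Δ ⊆ R ∪ Y ∪ Z)
    (hR : (R ⊆ Δ ∧ R.card < p) ∨ Disjoint R Δ) (hY : (Y ⊆ Δ ∧ Y.card < p) ∨ Disjoint Y Δ)
    (hZ : (Z ⊆ Δ ∧ Z.card < p) ∨ Disjoint Z Δ) : Good p Δ (mk R Y Z) := by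
  have key : ∀ (A : Finset Ω) (c : Fin 4), (∀ k, mk R Y Z k = c ↔ k ∈ A) →
      ((A ⊆ Δ ∧ A.card < p) ∨ Disjoint A Δ) → ∀ j ∈ Δ, j ∈ A → (∀ k, mk R Y Z k = mk R Y Z j → k ∈ Δ) ∧
        (Finset.univ.filter fun k => mk R Y Z k = mk R Y Z j).card < p := by
    intro A c hc hA j hj hjA
    have h1 := (hc j).2 hjA
    have h2 : A ⊆ Δ ∧ A.card < p := hA.resolve_right fun h => Finset.disjoint_left.1 h hjA hj
    have h3 : (Finset.univ.filter fun k => mk R Y Z k = mk R Y Z j) = A := by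
      ext k
      rw [Finset.mem_filter, h1, hc]
      simp
    rw [h3]
    refine ⟨fun k hk => ?_, h2.2⟩
    rw [h1, hc] at hk
    exact h2.1 hk
  intro j hj
  have h0 := hΔ hj
  rw [Finset.mem_union, Finset.mem_union] at h0
  rcases h0 with (h0 | h0) | h0
  · exact key R 0 (fun k => mk_eq_zero) hR j hj h0
  · exact key Y 1 (fun k => mk_eq_one hRY) hY j hj h0
  · exact key Z 2 (fun k => mk_eq_two hRZ hYZ) hZ j hj h0

theorem exists_col_aux (hp : 1 < p) (hq : 1 < q) (hpq : p ≠ q) (h1 : Δ.card ≤ p) (h2 : Δ'.card ≤ q) {x : Ω}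
    (hx : x ∈ Δ) (hx' : x ∈ Δ') (hI : p ≤ (Δ ∩ Δ').card) :
    ∃ col : Ω → Fin 4, col x = 0 ∧ Good p Δ col ∧ Good q Δ' col := by
  have h3 : Δ ∩ Δ' = Δ := Finset.eq_of_subset_of_card_le Finset.inter_subset_left (h1.trans hI)
  have h4 : Δ ⊆ Δ' := Finset.inter_eq_left.1 h3
  have h5 : p ≤ q := by
    rw [h3] at hI
    exact (hI.trans (Finset.card_le_card h4)).trans h2
  have h6 : p < q := lt_of_le_of_ne h5 hpq
  have hpos : 0 < Δ.card := Finset.card_pos.2 ⟨x, hx⟩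
  have hcE : (Δ.erase x).card < p := by
    rw [Finset.card_erase_of_mem hx]
    omega
  have hd1 : Disjoint ({x} : Finset Ω) (Δ.erase x) := by
    rw [Finset.disjoint_singleton_left]
    simp
  have hd2 : Disjoint ({x} : Finset Ω) (Δ' \ Δ) := by
    rw [Finset.disjoint_singleton_left]
    simp [hx]
  have hd3 : Disjoint (Δ.erase x) (Δ' \ Δ) :=
    Finset.disjoint_left.2 fun k hk hk' => (Finset.mem_sdiff.1 hk').2 (Finset.mem_of_mem_erase hk)
  refine ⟨mk {x} (Δ.erase x) (Δ' \ Δ), mk_eq_zero.2 (Finset.mem_singleton_self x), ?_, ?_⟩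
  · refine good_mk hd1 hd2 hd3 ?_ (Or.inl ⟨by simpa using hx, by rw [Finset.card_singleton]; exact hp⟩)
      (Or.inl ⟨Finset.erase_subset _ _, hcE⟩) (Or.inr Finset.sdiff_disjoint)
    intro k hk
    by_cases hkx : k = x
    · simp [hkx]
    · simp [hkx, hk]
  · refine good_mk hd1 hd2 hd3 ?_ (Or.inl ⟨by simpa using hx', by rw [Finset.card_singleton]; exact hq⟩)
      (Or.inl ⟨(Finset.erase_subset _ _).trans h4, hcE.trans h6⟩) (Or.inl ⟨Finset.sdiff_subset, ?_⟩)
    · intro k hk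
      by_cases hkΔ : k ∈ Δ
      · by_cases hkx : k = x
        · simp [hkx]
        · simp [hkx, hkΔ]
      · simp [hk, hkΔ]
    · have h7 : (Δ' \ Δ).card < Δ'.card := by
        apply Finset.card_lt_card
        refine ⟨Finset.sdiff_subset, fun h => ?_⟩
        exact (Finset.mem_sdiff.1 (h hx')).2 hx
      exact h7.trans_le h2

/-- **A colouring for two primes.** -/
theorem exists_col (hp : 1 < p) (hq : 1 < q) (hpq : p ≠ q) (h1 : Δ.card ≤ p) (h2 : Δ'.card ≤ q) {x : Ω}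
    (hx : x ∈ Δ) (hx' : x ∈ Δ') : ∃ col : Ω → Fin 4, col x = 0 ∧ Good p Δ col ∧ Good q Δ' col := by
  rcases Nat.lt_or_ge (Δ ∩ Δ').card p with h3 | h3
  · rcases Nat.lt_or_ge (Δ ∩ Δ').card q with h4 | h4
    · have hd1 : Disjoint (Δ ∩ Δ') (Δ \ Δ') :=
        Finset.disjoint_left.2 fun k hk hk' => (Finset.mem_sdiff.1 hk').2 (Finset.mem_inter.1 hk).2
      have hd2 : Disjoint (Δ ∩ Δ') (Δ' \ Δ) :=
        Finset.disjoint_left.2 fun k hk hk' => (Finset.mem_sdiff.1 hk').2 (Finset.mem_inter.1 hk).1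
      have hd3 : Disjoint (Δ \ Δ') (Δ' \ Δ) :=
        Finset.disjoint_left.2 fun k hk hk' => (Finset.mem_sdiff.1 hk').2 (Finset.mem_sdiff.1 hk).1
      refine ⟨mk (Δ ∩ Δ') (Δ \ Δ') (Δ' \ Δ), mk_eq_zero.2 (Finset.mem_inter.2 ⟨hx, hx'⟩), ?_, ?_⟩
      · refine good_mk hd1 hd2 hd3 ?_ (Or.inl ⟨Finset.inter_subset_left, h3⟩) (Or.inl ⟨Finset.sdiff_subset, ?_⟩)
          (Or.inr Finset.sdiff_disjoint)
        · intro k hk
          by_cases hk' : k ∈ Δ' <;> simp [hk, hk']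
        · have h7 : (Δ \ Δ').card < Δ.card := by
            apply Finset.card_lt_card
            refine ⟨Finset.sdiff_subset, fun h => ?_⟩
            exact (Finset.mem_sdiff.1 (h hx)).2 hx'
          exact h7.trans_le h1
      · refine good_mk hd1 hd2 hd3 ?_ (Or.inl ⟨Finset.inter_subset_right, h4⟩) (Or.inr Finset.sdiff_disjoint)
          (Or.inl ⟨Finset.sdiff_subset, ?_⟩)
        · intro k hk
          by_cases hk' : k ∈ Δ <;> simp [hk, hk']
        · have h7 : (Δ' \ Δ).card < Δ'.card := by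
            apply Finset.card_lt_card
            refine ⟨Finset.sdiff_subset, fun h => ?_⟩
            exact (Finset.mem_sdiff.1 (h hx')).2 hx
          exact h7.trans_le h2
    · obtain ⟨col, h5, h6, h7⟩ := exists_col_aux hq hp hpq.symm h2 h1 hx' hx (by rwa [Finset.inter_comm])
      exact ⟨col, h5, h7, h6⟩
  · exact exists_col_aux hp hq hpq h1 h2 hx hx' h3

end comb

section act

variable {G : Type*} [Group G] {Ω : Type*} [Fintype Ω] [DecidableEq Ω] [MulAction G Ω] {p : ℕ}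

/-- a `p`-group preserving a good colouring fixes `Δ` pointwise -/
theorem fix_of_good [hp : Fact p.Prime] {Q : Subgroup G} (hQ : IsPGroup p Q) {col : Ω → Fin 4}
    (hcol : ∀ h ∈ Q, ∀ j : Ω, col (h • j) = col j) {Δ : Finset Ω} (hg : Good p Δ col) :
    ∀ h ∈ Q, ∀ j ∈ Δ, h • j = j := by
  intro h hh j hj
  obtain ⟨b, hb⟩ := hQ.card_orbit j
  have h1 : (MulAction.orbit Q j) ⊆ ((Finset.univ.filter fun k => col k = col j : Finset Ω) : Set Ω) := by
    rintro _ ⟨h', rfl⟩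
    simp only [Finset.coe_filter, Finset.mem_univ, true_and, Set.mem_setOf_eq]
    exact hcol h' h'.2 j
  have h2 : Nat.card (MulAction.orbit Q j) ≤ (Finset.univ.filter fun k => col k = col j).card := by
    rw [← Set.ncard_coe_finset, ← Nat.card_coe_set_eq]
    exact Nat.card_mono (Set.toFinite _) h1
  rw [hb] at h2
  have h3 : b = 0 := by
    by_contra hb0
    have h4 : p ^ 1 ≤ p ^ b := Nat.pow_le_pow_right hp.1.pos (Nat.one_le_iff_ne_zero.2 hb0)
    have h5 := (hg j hj).2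
    rw [pow_one] at h4
    omega
  rw [h3, pow_zero] at hb
  have h4 : Subsingleton (MulAction.orbit Q j) := (Nat.card_eq_one_iff_unique.1 hb).1
  have h5 := h4.elim ⟨(⟨h, hh⟩ : Q) • j, ⟨_, rfl⟩⟩ ⟨j, MulAction.mem_orbit_self _⟩
  exact congrArg Subtype.val h5

/-- **The stabiliser of a good colouring has index divisible by `p`.** -/
theorem dvd_of_good [Finite G] [hp : Fact p.Prime] {H : Subgroup G} {col : Ω → Fin 4}
    (hcol : ∀ h ∈ H, ∀ j : Ω, col (h • j) = col j) {Δ : Finset Ω} (hg : Good p Δ col)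
    {g : G} {k : ℕ} (hk : g ^ p ^ k = 1) {x : Ω} (hx : x ∈ Δ) (hgx : g • x ≠ x)
    (hgΔ : ∀ j ∈ Δ, g • j ∈ Δ) (hgΔ' : ∀ j ∈ Δ, g⁻¹ • j ∈ Δ) : p ∣ H.index := by
  by_contra hcon
  obtain ⟨Q, hQ⟩ := exists_sylow_le hcon
  have hfix := fix_of_good Q.2 (fun h hh j => hcol h (hQ hh) j) hg
  let F : Subgroup G := fixingSubgroup G (Δ : Set Ω)
  have hF : ∀ h, h ∈ F ↔ ∀ j ∈ Δ, h • j = j := by
    intro h
    rw [mem_fixingSubgroup_iff]
    rfl
  have hQF : (Q : Subgroup G) ≤ F := fun h hh => (hF h).2 (hfix h hh)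
  apply not_dvd_index_of_le Q hQF
  refine dvd_index_of_normalizes (g := g) (k := k) (by rw [hk]; exact one_mem _) ?_ ?_
  · intro h hh
    rw [hF] at hh ⊢
    intro j hj
    rw [mul_smul, mul_smul, hh _ (hgΔ' j hj), smul_inv_smul]
  · intro h
    exact hgx ((hF g).1 h x hx)

/-- an orbit of length `p` through `x` -/
theorem exists_cycle [Finite G] [hp : Fact p.Prime] (htr : ∀ i j : Ω, ∃ a : G, a • i = j)
    (h : ∃ (g : G) (k : ℕ) (i : Ω), g ^ p ^ k = 1 ∧ g • i ≠ i) (x : Ω) :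
    ∃ (g : G) (k : ℕ) (Δ : Finset Ω), g ^ p ^ k = 1 ∧ x ∈ Δ ∧ Δ.card ≤ p ∧ g • x ≠ x ∧ (∀ j ∈ Δ, g • j ∈ Δ) ∧
      ∀ j ∈ Δ, g⁻¹ • j ∈ Δ := by
  classical
  obtain ⟨g, k, i, hk, hgi⟩ := h
  -- reduction to an element acting with order `p`
  obtain ⟨g, i, hk, hgi, hgp⟩ : ∃ (g : G) (i : Ω), g ^ p ^ k = 1 ∧ g • i ≠ i ∧ ∀ j : Ω, g ^ p • j = j := by
    set φ := MulAction.toPermHom G Ω with hφ
    have h1 : φ g ≠ 1 := by
      intro h
      exact hgi (congrArg (fun f : Equiv.Perm Ω => f i) h)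
    have h2 : φ g ^ p ^ k = 1 := by rw [← map_pow, hk, map_one]
    obtain ⟨j, -, hj⟩ := (Nat.dvd_prime_pow hp.1).1 (orderOf_dvd_of_pow_eq_one h2)
    have hj0 : j ≠ 0 := by
      rintro rfl
      rw [pow_zero, orderOf_eq_one_iff] at hj
      exact h1 hj
    obtain ⟨l, rfl⟩ := Nat.exists_eq_succ_of_ne_zero hj0
    have h3 : orderOf (φ (g ^ p ^ l)) = p := by
      rw [map_pow, orderOf_pow_of_dvd (pow_ne_zero _ hp.1.ne_zero) (by rw [hj]; exact pow_dvd_pow _ (Nat.le_succ l)),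
        hj, Nat.succ_eq_add_one, pow_succ, Nat.mul_div_cancel_left _ (pow_pos hp.1.pos _)]
    have h4 : φ (g ^ p ^ l) ≠ 1 := by
      intro h
      rw [h, orderOf_one] at h3
      exact hp.1.one_lt.ne h3
    obtain ⟨i1, hi1⟩ : ∃ i1, φ (g ^ p ^ l) i1 ≠ i1 := by
      by_contra hcon
      push Not at hcon
      exact h4 (Equiv.ext hcon)
    refine ⟨g ^ p ^ l, i1, ?_, hi1, fun j => ?_⟩
    · rw [← pow_mul, mul_comm, pow_mul, hk, one_pow]
    · have h5 : φ ((g ^ p ^ l) ^ p) = 1 := by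
        rw [map_pow]
        exact orderOf_dvd_iff_pow_eq_one.1 (by rw [h3])
      exact congrArg (fun f : Equiv.Perm Ω => f j) h5
  -- move to `x`
  obtain ⟨a, ha⟩ := htr i x
  obtain ⟨g, hk, hgx, hgp⟩ : ∃ g : G, g ^ p ^ k = 1 ∧ g • x ≠ x ∧ ∀ j : Ω, g ^ p • j = j := by
    refine ⟨a * g * a⁻¹, ?_, ?_, fun j => ?_⟩
    · rw [conj_pow, hk, mul_one, mul_inv_cancel]
    · rw [mul_smul, mul_smul, ← ha, inv_smul_smul]
      intro h
      exact hgi (smul_left_cancel a h)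
    · rw [conj_pow, mul_smul, mul_smul, hgp, smul_inv_smul]
  set Δ : Finset Ω := (Finset.range p).image fun l => g ^ l • x with hΔ
  have hcard : Δ.card ≤ p := Finset.card_image_le.trans (by rw [Finset.card_range])
  have hxΔ : x ∈ Δ := by
    rw [hΔ, Finset.mem_image]
    exact ⟨0, Finset.mem_range.2 hp.1.pos, by rw [pow_zero, one_smul]⟩
  have hgΔ : ∀ j ∈ Δ, g • j ∈ Δ := by
    intro j hj
    rw [hΔ, Finset.mem_image] at hj
    obtain ⟨l, hl, rfl⟩ := hj
    rw [Finset.mem_range] at hl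
    rw [smul_smul, ← pow_succ']
    rcases Nat.lt_or_ge (l + 1) p with h | h
    · rw [hΔ, Finset.mem_image]
      exact ⟨l + 1, Finset.mem_range.2 h, rfl⟩
    · have : l + 1 = p := by omega
      rw [this, hgp]
      exact hxΔ
  refine ⟨g, k, Δ, hk, hxΔ, hcard, hgx, hgΔ, ?_⟩
  have h1 : Δ.image (fun j => g • j) = Δ := by
    apply Finset.eq_of_subset_of_card_le
    · intro y hy
      rw [Finset.mem_image] at hy
      obtain ⟨j, hj, rfl⟩ := hy
      exact hgΔ j hj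
    · rw [Finset.card_image_of_injective _ (MulAction.injective g)]
  intro j hj
  rw [← h1, Finset.mem_image] at hj
  obtain ⟨l, hl, rfl⟩ := hj
  rwa [inv_smul_smul]

end act

end Cfsg.Agent.H730.Col
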