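import Cfsg.Agent.H735.RegLie
import Cfsg.Agent.H716.RGDAb
import Cfsg.Agent.H716.RGDAbMinus
import Cfsg.Agent.H730.RankOneNA

/-!
# Groups of Lie type of rank at least two: split (B,N)-pairs (helper730)

* `HasSplitAb2 p K` : a split (B,N)-pair of characteristic `p` and rank at least two, `B / U` abelian;
* `table` : a simple group of Lie type in characteristic `r` has one, or a nonabelian Sylow `r`-subgroup, or is `PSL₂`;
* **`exists_uni`** : `K` of Lie type in characteristic `r`, `K` not `PSL₂(F)`, `F` of characteristic `r`; `p ≠ q` prime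
  divisors of `|K|`: some `r`-element `x ≠ 1` has `p, q` dividing `|K : C(x)|`.
-/

set_option autoImplicit false
set_option linter.unusedSectionVars false

namespace Cfsg.Agent.H730.RankTwo

open Cfsg Subgroup
open Cfsg.Agent.FixBN Cfsg.Agent.H716.RegUni Cfsg.Agent.H735.RegPair Cfsg.Agent.H735.RegLie
open Cfsg.Agent.Omega.ML.LieRow.CRB
open Cfsg.Agent.H730.RankOneNA

universe u

/-- A split (B,N)-pair of characteristic `p`, of rank `≥ 2`, with `B / U` abelian. -/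
def HasSplitAb2 (p : ℕ) (K : Type*) [Group K] : Prop :=
  ∃ (P : Cfsg.BNPair K) (U : Subgroup K), (∃ s ∈ P.S, ∃ t ∈ P.S, s ≠ t) ∧ Split P p U ∧
    ∀ x ∈ P.B, ∀ y ∈ P.B, x * y * x⁻¹ * y⁻¹ ∈ U

theorem HasSplitAb2.congr {p : ℕ} {K L : Type*} [Group K] [Group L] (e : K ≃* L) (h : HasSplitAb2 p K) :
    HasSplitAb2 p L := by
  obtain ⟨P, U, ⟨s, hs, t, ht, hst⟩, hsp, hc⟩ := h
  refine ⟨Transport.mapBN e P, U.map e.toMonoidHom, ⟨e s, ⟨s, hs, rfl⟩, e t, ⟨t, ht, rfl⟩,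
    fun h => hst (e.injective h)⟩, Transport.split e P hsp, ?_⟩
  rintro _ ⟨x, hx, rfl⟩ _ ⟨y, hy, rfl⟩
  exact ⟨_, hc x hx y hy, by simp⟩

section rgd

open Subgroup CoxeterSystem Cfsg.Agent.ChevalleyStructure.CoxeterGeom Cfsg.Agent.Tits.Roots Cfsg.Agent.Tits.Core
  Cfsg.Agent.Tits.RootComb Cfsg.Agent.Nodes.Comb Cfsg.Agent.Nodes.Reps Cfsg.Agent.Nodes.BNOf
open Cfsg.Agent.FixBN Cfsg.Agent.FixBN.SplitRGD Cfsg.Agent.Omega.Lie.End

variable {I W Y : Type*} [Fintype I] [DecidableEq I] [Group W] [Group Y] {M : CoxeterMatrix I}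
  {cs : CoxeterSystem M W} {A : I → I → ℤ} {h : IsCartan M A} {p : ℕ} {T : Subgroup Y} {n : I → Y}
  {X : (I → ℤ) → Subgroup Y}

theorem hasSplitAb2_of_rgd [Finite W] [IsSimpleGroup Y] (hp : p.Prime) (R : RGD cs h p T n X)
    (hgen : RGD.Sup X {x | IsRoot cs h x} = ⊤) (ab : ∀ s ∈ T, ∀ t ∈ T, s * t = t * s) {i j : I} (hij : i ≠ j) :
    HasSplitAb2 p Y := by
  have hg := NodeRGD.gen_of_top R hgen
  have hne : (R.bnPair hg).S.Nonempty := ⟨n i, i, rfl⟩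
  have hs := split_of_rgd hp R hg (Cfsg.Agent.Tits.OfBN.normalCore_eq_bot (R.bnPair hg) hne)
  refine ⟨R.bnPair hg, _, ⟨n i, ⟨i, rfl⟩, n j, ⟨j, rfl⟩, fun h => hij (R.n_injective h)⟩, hs, ?_⟩
  refine comm_of_dec (D := (T : Set Y)) hs.norm (fun t ht => ?_) (fun b hb => ?_) ab
  · exact (le_sup_left : T ≤ RGD.B cs h T X) ht
  · obtain ⟨u, hu, hT⟩ := NodeRGD.cover R (show b ∈ RGD.B cs h T X from hb)
    exact ⟨u, hu, u⁻¹ * b, hT, by group⟩

theorem hasSplitAb2_of_row {Y : Type*} [Group Y] [IsSimpleGroup Y] (h : HasRow Y) : HasSplitAb2 2 Y := by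
  obtain ⟨l, M, A, h, T, n, X, hW, R, hX, hr⟩ := h
  obtain ⟨i, j, hij⟩ := hr.two
  exact hasSplitAb2_of_rgd Nat.prime_two R hX hr.ab hij

end rgd

theorem hasSplitAb2_of_twF4 {G : Type*} [Group G] (h : Cfsg.Lie.Iso2F4 G) : HasSplitAb2 2 G := by
  obtain ⟨K, i1, i2, m, hm, hK, ⟨e⟩⟩ := h
  obtain ⟨Q, UE, s, t, hp, -⟩ := ParSys.Fam.TwoFFour.exists_all hm hK
  refine HasSplitAb2.congr e.symm ⟨Q, UE, ⟨s, ?_, t, ?_, hp.ne⟩, hp.split, hp.comm⟩
  · rw [hp.S]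
    exact Set.mem_insert _ _
  · rw [hp.S]
    exact Set.mem_insert_of_mem _ rfl

section families

open Cfsg.Agent.ChevalleyStructure.CoxeterGeom Cfsg.Agent.Tits.Roots
open Cfsg.Agent.Nodes.Comb Cfsg.Agent.Nodes.Reps Cfsg.Agent.Nodes.WittRoot Cfsg.Agent.Nodes.BNOf
open Cfsg.Agent.Nodes Cfsg.Agent.Nodes.RGDLib Cfsg.Agent.Nodes.WittAll Cfsg.Agent.Nodes.WittU Cfsg.Agent.Nodes.RGDChev
open Cfsg.Agent.Nodes.WittInst
open Cfsg.Agent.Nodes.WittRGD (Tor mem_Tor)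
open Cfsg.Agent.TitsThree Cfsg.Agent.TitsThree.Siegel Cfsg.Agent.TitsThree.SiegelGen
  Cfsg.Agent.TitsThree.WittFrame Cfsg.Agent.TitsThree.WBridge Cfsg.Agent.TitsThree.WittWeyl
  Cfsg.Agent.TitsThree.FrameCN
open Cfsg.Agent.H716.RGDAb

/-- A generating root group datum of characteristic `p` and rank `≥ 2` with abelian torus. -/
def HasRGDAb2 (p : ℕ) (G : Type*) [Group G] : Prop :=
  ∃ (l : ℕ) (M : CoxeterMatrix (Fin l)) (A : Fin l → Fin l → ℤ) (h : IsCartan M A) (T : Subgroup G) (n : Fin l → G)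
    (X : (Fin l → ℤ) → Subgroup G), 2 ≤ l ∧ Finite M.Group ∧ RGD M.toCoxeterSystem h p T n X ∧
      RGDLib.G1 M.toCoxeterSystem h X = ⊤ ∧ ∀ s ∈ T, ∀ t ∈ T, s * t = t * s

theorem HasRGDAb2.of_equiv {p : ℕ} {G H : Type*} [Group G] [Group H] (e : G ≃* H) (hG : HasRGDAb2 p G) :
    HasRGDAb2 p H := by
  obtain ⟨l, M, A, h, T, n, X, hl, hW, R, hX, hT⟩ := hG
  refine ⟨l, M, A, h, T.map e.toMonoidHom, fun i => e (n i), fun x => (X x).map e.toMonoidHom, hl, hW,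
    RGDLib.rgd_map_of_injective R e.toMonoidHom e.injective, ?_, ?_⟩
  · have h1 : (RGDLib.G1 M.toCoxeterSystem h X).map e.toMonoidHom =
        RGDLib.G1 M.toCoxeterSystem h (fun x => (X x).map e.toMonoidHom) := by
      unfold RGDLib.G1 RGD.Sup
      rw [Subgroup.map_iSup]
    rw [← h1, hX, Subgroup.map_top_of_surjective _ e.surjective]
  · rintro _ ⟨s, hs, rfl⟩ _ ⟨t, ht, rfl⟩
    rw [← map_mul, ← map_mul, hT s hs t ht]

theorem hasSplitAb2_of_rgdAb2 {p : ℕ} (hp : p.Prime) {G : Type*} [Group G] [IsSimpleGroup G]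
    (h : HasRGDAb2 p G) : HasSplitAb2 p G := by
  obtain ⟨l, M, A, h, T, n, X, hl, hW, R, hX, hab⟩ := h
  exact hasSplitAb2_of_rgd hp R hX hab (i := ⟨0, by omega⟩) (j := ⟨1, by omega⟩) (by simp)

theorem ab2_group {D : Cfsg.Lie.ChevalleyDatum} {l : ℕ} {M : CoxeterMatrix (Fin l)} (hp : IsType D l M) (hl : 2 ≤ l)
    (K : Type u) [Field K] [Finite K] (p : ℕ) [CharP K p] : HasRGDAb2 p ↥(D.group K) := by
  have : Fact p.Prime := ⟨CharP.char_is_prime K p⟩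
  exact ⟨l, M, Cfsg.Agent.ChevalleyStructure.CoxeterGeomTypes.cartanOf D l, hp.isCartan, _, _, _, hl,
    finite_W hp M.toCoxeterSystem,
    rgd (K := K) hp M.toCoxeterSystem p, G1_eq_top hp _, fun s hs t ht =>
      Subtype.ext (OddHalf.Small.ChevCent.diag_comm hp.inList (Subgroup.mem_subgroupOf.1 hs)
        (Subgroup.mem_subgroupOf.1 ht))⟩

theorem ab2_exc {p : ℕ} {G : Type*} [Group G] (hG : IsExceptionalChevChar p G) : HasRGDAb2 p G := by
  obtain ⟨F, _, _, _, ⟨-, ⟨e⟩⟩ | ⟨⟨e⟩⟩ | ⟨⟨e⟩⟩ | ⟨⟨e⟩⟩ | ⟨⟨e⟩⟩⟩ := hG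
  · exact (ab2_group (l := 2) (M := CoxeterMatrix.G₂) (by simp [IsType, typeList]) (by norm_num) F p).of_equiv e.symm
  · exact (ab2_group (l := 4) (M := CoxeterMatrix.F₄) (by simp [IsType, typeList]) (by norm_num) F p).of_equiv e.symm
  · exact (ab2_group (l := 6) (M := CoxeterMatrix.E₆) (by simp [IsType, typeList]) (by norm_num) F p).of_equiv e.symm
  · exact (ab2_group (l := 7) (M := CoxeterMatrix.E₇) (by simp [IsType, typeList]) (by norm_num) F p).of_equiv e.symm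
  · exact (ab2_group (l := 8) (M := CoxeterMatrix.E₈) (by simp [IsType, typeList]) (by norm_num) F p).of_equiv e.symm

theorem ab2_twE6 {K : Type u} [Field K] [Fintype K] {q : ℕ} (hq : IsPrimePow q) (hK : Fintype.card K = q ^ 2)
    (p : ℕ) [CharP K p] : HasRGDAb2 p ↥(Cfsg.Lie.twistedE6 K q) := by
  obtain ⟨φ, hφ, hqq⟩ := Cfsg.Agent.ChevalleyStructure.TwE6Basic.exists_frob hq hK
  have : Fact p.Prime := ⟨CharP.char_is_prime K p⟩
  exact ⟨4, _, _, RGDTwE6.isCartan, _, _, _, by norm_num,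
    RGDFold.finite_W (hp := RGDTwE6.hp) (CoxeterMatrix.F₄).toCoxeterSystem RGDTwE6.isCartan RGDTwE6.foldData,
    RGDFold.rgd _ RGDTwE6.isCartan RGDTwE6.foldData (RGDTwE6.foldGrp hφ hqq) p,
    RGDFold.G1_eq_top _ RGDTwE6.isCartan RGDTwE6.foldData (RGDTwE6.foldGrp hφ hqq) p, fun s hs t ht =>
      Subtype.ext (OddHalf.Small.ChevCent.diag_comm RGDTwE6.hp.inList (Subgroup.mem_subgroupOf.1 hs).1
        (Subgroup.mem_subgroupOf.1 ht).1)⟩

theorem ab2_twD4 {K : Type u} [Field K] [Fintype K] {q : ℕ} (hq : IsPrimePow q) (hK : Fintype.card K = q ^ 3)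
    (p : ℕ) [CharP K p] : HasRGDAb2 p ↥(Cfsg.Lie.twistedD4 K q) := by
  obtain ⟨φ, hφ⟩ := Cfsg.Agent.ChevalleyStructure.D4Fixed.exists_frob hq hK
  have : Fact p.Prime := ⟨CharP.char_is_prime K p⟩
  exact ⟨2, _, _, RGDTwD4.isCartan, _, _, _, le_rfl,
    RGDFold.finite_W (hp := RGDTwD4.hp) (CoxeterMatrix.G₂).toCoxeterSystem RGDTwD4.isCartan RGDTwD4.foldData,
    RGDFold.rgd _ RGDTwD4.isCartan RGDTwD4.foldData (RGDTwD4.foldGrp hφ (Cfsg.Agent.ChevalleyStructure.D4Fixed.twisted_le_fix hK hφ)) p,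
    RGDFold.G1_eq_top _ RGDTwD4.isCartan RGDTwD4.foldData
      (RGDTwD4.foldGrp hφ (Cfsg.Agent.ChevalleyStructure.D4Fixed.twisted_le_fix hK hφ)) p, fun s hs t ht =>
      Subtype.ext (OddHalf.Small.ChevCent.diag_comm RGDTwD4.hp.inList (Subgroup.mem_subgroupOf.1 hs).1
        (Subgroup.mem_subgroupOf.1 ht).1)⟩

theorem ab2_tw {p : ℕ} {G : Type*} [Group G] (hG : IsTwistedE6D4Char p G) : HasRGDAb2 p G := by
  obtain ⟨K, _, _, _, q, hq, ⟨hK, ⟨e⟩⟩ | ⟨hK, ⟨e⟩⟩⟩ := hG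
  · exact (ab2_twE6 hq hK p).of_equiv e.symm
  · exact (ab2_twD4 hq hK p).of_equiv e.symm

theorem ab2_PSL {F : Type*} [Field F] [Finite F] {n : ℕ} (hn : 2 ≤ n) {p : ℕ} [Fact p.Prime] [CharP F p] :
    HasRGDAb2 p (Matrix.ProjectiveSpecialLinearGroup (Fin (n + 1)) F) :=
  have : Finite (Cfsg.Agent.LieRecognition.BNCox.cA n).Group :=
    RootsA.finite_W (Cfsg.Agent.LieRecognition.BNCox.cA n).toCoxeterSystem (RootsA.isCartan n)
  ⟨n, Cfsg.Agent.LieRecognition.BNCox.cA n, RootsA.AA n, RootsA.isCartan n, _, _, _, hn, this,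
    RGDTypeA.rgd_psl _ _, RGDTypeA.G1_psl_eq_top _ _, by
      rintro _ ⟨s, hs, rfl⟩ _ ⟨t, ht, rfl⟩
      rw [← map_mul, ← map_mul, KFacts.Mult.TypeA.T_comm hs ht]⟩

/-- type `C_n` -/
theorem ab2_C {F : Type*} [Field F] {V : Type*} [AddCommGroup V] [Module F V] {H : HForm F V} {n : ℕ}
    {Fr : Frame H (Fin n)} {K : Type*} [Group K] (M : Model Fr K) {p : ℕ} (hA : AmbT Fr p M.I) [Finite V]
    [Fact p.Prime] [CharP F p] {p0 : Fr.Adm} (hp0 : p0.c ≠ 0) (hn : 2 ≤ n)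
    (hT : ∀ s ∈ Tor Fr M.I, ∀ t ∈ Tor Fr M.I, ∀ w ∈ Fr.V0, s (t w) = t (s w)) : HasRGDAb2 p K :=
  ⟨n, CoxeterMatrix.B n, TypeC.A n, TypeC.isCartan n, _, _, _, hn, TypeC.finite_W (CoxeterMatrix.B n).toCoxeterSystem,
    rgdC_model M hA hp0 _, WittModel.G1_eq_top _ (by omega) _, by
      rintro _ ⟨s, hs, rfl⟩ _ ⟨t, ht, rfl⟩
      rw [← map_mul, ← map_mul]
      congr 1
      exact Subtype.ext (tor_comm_of hA.V0 (Subgroup.mem_subgroupOf.1 hs) (Subgroup.mem_subgroupOf.1 ht)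
        (hT _ (Subgroup.mem_subgroupOf.1 hs) _ (Subgroup.mem_subgroupOf.1 ht)))⟩

theorem ab2_PSU {F : Type*} [Field F] [Fintype F] {q N : ℕ} (hF : Fintype.card F = q ^ 2) (hN : 4 ≤ N) {p : ℕ}
    [Fact p.Prime] [CharP F p] : HasRGDAb2 p (PSU N F q) := by
  obtain ⟨m, hm⟩ : ∃ m, N = 2 * m ∨ N = 2 * m + 1 := ⟨N / 2, by omega⟩
  obtain ⟨W, -⟩ := exists_wframe hF hm
  obtain ⟨p0, hp0, -⟩ := exists_adm hF W
  have hA := AmbT.of_amb (amb_U hF W) p
  have hdim := finrank_V0 (Fr := toFrame W)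
  rw [Module.finrank_fintype_fun_eq_card, Fintype.card_fin] at hdim
  refine ab2_C (KInstU.model hF (by omega) W) hA hp0 (by omega) fun s hs t ht => comm_V0_of_line hA ?_ hs ht
  have h1 : Module.finrank F ↥(toFrame W).V0 ≤ 1 := by omega
  obtain ⟨v, hv⟩ := finrank_le_one_iff.1 h1
  refine ⟨v.1, fun w hw => ?_⟩
  obtain ⟨c, hc⟩ := hv ⟨w, hw⟩
  exact ⟨c, (congrArg Subtype.val hc).symm⟩

theorem ab2_PSp {F : Type*} [Field F] [Finite F] {m : ℕ} (hm : 2 ≤ m) {p : ℕ}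
    [Fact p.Prime] [CharP F p] : HasRGDAb2 p (PSp m F) := by
  have hA := AmbT.of_amb (amb_Sp (F := F) (m := m)) p
  refine ab2_C (KInstSp.model m F) hA (p0 := SpIdent.adm 1) one_ne_zero hm
    fun s hs t ht => comm_V0_of_line hA ⟨0, fun w hw => ⟨0, ?_⟩⟩ hs ht
  rw [smul_zero]
  exact (Submodule.mem_bot F).1 hw

section Orthogonal

open QuadraticMap
open Cfsg.Agent.LieClassical Cfsg.Agent.LieClassical.OrthCore Cfsg.Agent.LieClassical.OrthTrans
open Cfsg.Agent.LieClassical.OrthSimple Cfsg.Agent.LieClassical.OrthFinite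
open Cfsg.Agent.LieClassical.OrthForms
open Cfsg.Agent.TitsThree.KSideO Cfsg.Agent.TitsThree.StdData

variable {F : Type*} [Field F] {m : ℕ}

theorem ab2_PO_odd [Finite F] (h2 : (2 : F) ≠ 0) (hm : 2 ≤ m) {p : ℕ} [Fact p.Prime] [CharP F p] :
    HasRGDAb2 p (Cfsg.POmega F (Cfsg.quadFormOdd m F)) := by
  rw [← coe_oddForm]
  have hG : Good (oddForm m F) := by
    apply good_of_finite (nondeg_oddForm m F h2)
    rw [Module.finrank_fintype_fun_eq_card, Fintype.card_sum, Fintype.card_sum, Fintype.card_fin,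
      Fintype.card_unit]
    omega
  have hp : ((embOdd m F).ngt ⟨1, -1 ^ 2, rfl⟩).c ≠ 0 := by
    change (1 : F)⁻¹ * (-1 ^ 2) ≠ 0
    simp
  have hA : AmbT (toFrame (wodd m F)) p (E (oddForm m F)) := AmbT.of_amb (amb_O_of_two _ h2) p
  refine ab2_C (model (wodd m F) hG ⟨_, hp⟩) hA hp hm fun s hs t ht => comm_V0_of_line hA ?_ hs ht
  have hdim := finrank_V0 (Fr := toFrame (wodd m F))
  rw [Module.finrank_fintype_fun_eq_card, Fintype.card_sum, Fintype.card_sum, Fintype.card_fin,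
      Fintype.card_unit] at hdim
  have h1 : Module.finrank F ↥(toFrame (wodd m F)).V0 ≤ 1 := by omega
  obtain ⟨v, hv⟩ := finrank_le_one_iff.1 h1
  refine ⟨v.1, fun w hw => ?_⟩
  obtain ⟨c, hc⟩ := hv ⟨w, hw⟩
  exact ⟨c, (congrArg Subtype.val hc).symm⟩

theorem ab2_PO_plus [Finite F] (n : ℕ) {p : ℕ} [Fact p.Prime] [CharP F p] :
    HasRGDAb2 p (Cfsg.POmega F (Cfsg.quadFormPlus (n + 3) F)) := by
  rw [← coe_plusForm]
  have hG : Good (plusForm (n + 3) F) := by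
    apply good_of_finite (nondeg_plusForm (n + 3) F)
    rw [Module.finrank_fintype_fun_eq_card, Fintype.card_sum, Fintype.card_fin]
    omega
  refine ⟨n + 3, TypeD.M (n + 1), TypeD.A (n + 1), TypeD.isCartan (n + 1), _, _, _, by omega,
    TypeD.finite_W (TypeD.M (n + 1)).toCoxeterSystem,
    rgdD_model (wplus (n + 3) F) hG (amb_plus _) (adm_plus _) _,
    G1D_eq_top (wplus (n + 3) F) (toPOmega hG) (toPOmega_surjective hG) (adm_plus _) _, ?_⟩
  rintro _ ⟨s, hs, rfl⟩ _ ⟨t, ht, rfl⟩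
  rw [← map_mul, ← map_mul]
  congr 1
  refine Subtype.ext (tor_comm_of (amb_plus (F := F) (n + 3)).V0 (Subgroup.mem_subgroupOf.1 hs)
    (Subgroup.mem_subgroupOf.1 ht) fun w hw => ?_)
  have hw0 : w = 0 := (Submodule.mem_bot F).1 hw
  rw [hw0, map_zero, map_zero, map_zero]

theorem ab2_PO_minus {a b : F} [Finite F] (h2 : (2 : F) ≠ 0)
    (hab : ∀ z₁ z₂ : F, z₁ ^ 2 + a * z₁ * z₂ + b * z₂ ^ 2 = 0 → z₁ = 0 ∧ z₂ = 0)
    (hm : 2 ≤ m) {p : ℕ} [Fact p.Prime] [CharP F p] :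
    HasRGDAb2 p (Cfsg.POmega F (Cfsg.quadFormMinus m F a b)) := by
  rw [← coe_minusForm]
  have hG : Good (minusForm m F a b) := by
    apply good_of_finite (nondeg_minusForm m F a b hab)
    rw [Module.finrank_fintype_fun_eq_card, Fintype.card_sum, Fintype.card_sum, Fintype.card_fin,
      Fintype.card_fin]
    omega
  have hp : ((embMinus m F a b hab).ngt ⟨(1, 0), -nf a b (1, 0), rfl⟩).c ≠ 0 := by
    change (1 : F)⁻¹ * (-nf a b (1, 0)) ≠ 0
    simp [nf]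
  have hA : AmbT (toFrame (wminus m F a b hab)) p (E (minusForm m F a b)) := AmbT.of_amb (amb_O_of_two _ h2) p
  have hV0 : ∀ g ∈ Tor (toFrame (wminus m F a b hab)) (E (minusForm m F a b)),
      ∀ w ∈ (toFrame (wminus m F a b hab)).V0, g w ∈ (toFrame (wminus m F a b hab)).V0 :=
    fun g hg w hw => hA.map_V0 hg.1 hg.2 (ρ := id) (fun _ => rfl) hw
  refine ab2_C (model (wminus m F a b hab) hG ⟨_, hp⟩) hA hp hm fun s hs t ht w hw => ?_
  obtain ⟨x, z, hs0, hs1⟩ := exists_rot hab h2 hG hV0 hs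
  obtain ⟨x', z', ht0, ht1⟩ := exists_rot hab h2 hG hV0 ht
  have hw' : ∀ j, w (Sum.inl j) = 0 := hw
  have hwe : w = w (Sum.inr 0) • e0 m F + w (Sum.inr 1) • e1 m F := by
    funext j
    rcases j with j | j
    · rw [hw']; simp [e0, e1]
    · fin_cases j
      · simp [e0, e1]
      · simp [e0, e1]
  have c0 : s (t (e0 m F)) = t (s (e0 m F)) := by
    rw [ht0, hs0, map_add, map_smul, map_smul, map_add, map_smul, map_smul, ht0, ht1, hs0, hs1]
    simp only [smul_add, smul_smul]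
    module
  have c1 : s (t (e1 m F)) = t (s (e1 m F)) := by
    rw [ht1, hs1, map_add, map_smul, map_smul, map_add, map_smul, map_smul, ht0, ht1, hs0, hs1]
    simp only [smul_add, smul_smul]
    module
  rw [hwe]
  simp only [map_add, map_smul]
  rw [c0, c1]

end Orthogonal

end families

/-- `K ≅ PSL₂(F)`, `F` of characteristic `r`, `|F| ≥ 4`. -/
def IsLTwoChar (r : ℕ) (K : Type*) [Group K] : Prop :=
  ∃ (F : Type) (_ : Field F) (_ : Fintype F) (_ : CharP F r), 4 ≤ Fintype.card F ∧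
    Nonempty (K ≃* Matrix.ProjectiveSpecialLinearGroup (Fin 2) F)

theorem two_dvd_card_of_char {F : Type*} [Field F] [Fintype F] [CharP F 2] : 2 ∣ Fintype.card F := by
  have : Fact (Nat.Prime 2) := ⟨Nat.prime_two⟩
  obtain ⟨n, hp, hn⟩ := FiniteField.card F 2
  rw [hn]
  exact dvd_pow_self _ n.ne_zero

/-- **The groups of Lie type.** -/
theorem table {r : ℕ} (hr : r.Prime) {G : Type u} [Group G] [Finite G] [IsSimpleGroup G] (h : IsLieTypeChar r G) :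
    HasSplitAb2 r G ∨ NonabSyl r G ∨ IsLTwoChar r G := by
  have : Fact r.Prime := ⟨hr⟩
  rcases eq_or_ne r 2 with rfl | hp2
  · rcases Cfsg.Agent.Omega.Lie.End.kTable G inferInstance h with h | h | h | h | h
    · exact Or.inl (hasSplitAb2_of_row h)
    · obtain ⟨F, _, _, _, h4, he⟩ := h
      exact Or.inr (Or.inr ⟨F, _, _, ‹_›, h4, he⟩)
    · obtain ⟨F, _, _, _, q, hF, -, ⟨e⟩⟩ := h
      exact Or.inr (Or.inl ((nonabSyl_PSU3 hF).congr e.symm))
    · exact Or.inr (Or.inl (nonabSyl_sz h))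
    · exact Or.inl (hasSplitAb2_of_twF4 h)
  rcases h with h | h | h | h | h | h | h | h | h | h | h
  · obtain ⟨F, _, _, _, n, hn, h4, ⟨e⟩⟩ := h
    rcases eq_or_lt_of_le hn with rfl | hn
    · exact Or.inr (Or.inr ⟨F, _, _, ‹_›, h4 rfl, ⟨e⟩⟩)
    · obtain ⟨n, rfl⟩ : ∃ k, n = k + 1 := ⟨n - 1, by omega⟩
      exact Or.inl (hasSplitAb2_of_rgdAb2 hr ((ab2_PSL (by omega)).of_equiv e.symm))
  · obtain ⟨F, _, _, _, m, hm, -, ⟨e⟩⟩ := h
    exact Or.inl (hasSplitAb2_of_rgdAb2 hr ((ab2_PSp hm).of_equiv e.symm))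
  · obtain ⟨F, _, _, _, n, q, hF, hn, -, ⟨e⟩⟩ := h
    rcases eq_or_lt_of_le hn with rfl | hn
    · exact Or.inr (Or.inl ((nonabSyl_PSU3 hF).congr e.symm))
    · exact Or.inl (hasSplitAb2_of_rgdAb2 hr ((ab2_PSU hF hn).of_equiv e.symm))
  · obtain ⟨F, _, _, _, m, hm, hodd, ⟨e⟩⟩ := h
    exact Or.inl (hasSplitAb2_of_rgdAb2 hr ((ab2_PO_odd (H716.SplitAb.two_ne hp2) (by omega)).of_equiv e.symm))
  · obtain ⟨F, _, _, _, m, hm, ⟨e⟩⟩ := h
    obtain ⟨n, rfl⟩ : ∃ n, m = n + 3 := ⟨m - 3, by omega⟩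
    exact Or.inl (hasSplitAb2_of_rgdAb2 hr ((ab2_PO_plus n).of_equiv e.symm))
  · obtain ⟨F, _, _, _, m, a, b, hm, hab, ⟨e⟩⟩ := h
    exact Or.inl (hasSplitAb2_of_rgdAb2 hr
      ((ab2_PO_minus (H716.SplitAb.two_ne hp2) hab (by omega)).of_equiv e.symm))
  · exact Or.inl (hasSplitAb2_of_rgdAb2 hr (ab2_exc h))
  · exact Or.inl (hasSplitAb2_of_rgdAb2 hr (ab2_tw h))
  · exact absurd h.1 hp2
  · exact absurd h.1 hp2
  · obtain ⟨rfl, h⟩ := h
    exact Or.inr (Or.inl (nonabSyl_ree h))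

/-! ### Unipotent elements -/

variable {K : Type u} [Group K] [Finite K] [IsSimpleGroup K] {r : ℕ}

/-- **The characteristic and another prime**, rank `≥ 2`. -/
theorem exists_uni_char2 {q : ℕ} [hq : Fact q.Prime] [hr : Fact r.Prime] (h : HasSplitAb2 r K)
    (hqr : q ≠ r) (hdq : q ∣ Nat.card K) :
    ∃ x : K, x ≠ 1 ∧ (∃ k, orderOf x = r ^ k) ∧ r ∣ (centralizer ({x} : Set K)).index ∧
      q ∣ (centralizer ({x} : Set K)).index := by
  classical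
  obtain ⟨P, U, ⟨s, hs, t, ht, hst⟩, h, hab⟩ := h
  have hne : P.S.Nonempty := ⟨s, hs⟩
  have hN : ((P.B ⊓ P.N).subgroupOf P.N).Normal := Cfsg.Agent.Tits.OfBN.normal_subgroupOf P
  obtain ⟨M, cs, hcs⟩ := Cfsg.Agent.S0320.result P
  have hI : Finite P.S := FixBN.OfBN.finite_I (Equiv.refl P.S)
  have hIn : Nonempty P.S := hne.to_subtype
  have hcore := Cfsg.Agent.Tits.OfBN.normalCore_eq_bot P hne
  have hfaith : ∀ g : K, (∀ x : K ⧸ P.B, g • x = x) → g = 1 := by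
    intro g hg
    have h1 : g ∈ P.B.normalCore := by
      intro a
      have h2 := hg (QuotientGroup.mk a⁻¹)
      rw [FixBN.OfBN.smul_mk_eq] at h2
      simpa using h2
    rw [hcore] at h1
    exact Subgroup.mem_bot.1 h1
  let S := FixBN.OfBN.sys (Equiv.refl P.S) cs hcs h
  let c : K ⧸ P.B := QuotientGroup.mk (1 : K)
  obtain ⟨x, hx, hx2, v, hv, hvx⟩ := exists_reg_central (p := q) S hqr
    (Cfsg.Agent.Tits.OfBN.thick P (Equiv.refl P.S) cs hcs) c hfaith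
    (by
      intro a b ha hb
      rw [FixBN.OfBN.smul_mk_eq] at ha hb
      change _ ∈ FixBN.OfBN.UU P U (QuotientGroup.mk (1 : K))
      rw [FixBN.OfBN.mem_UU h]
      have ha' : a ∈ P.B := by simpa using ha
      have hb' : b ∈ P.B := by simpa using hb
      simpa using hab a ha' b hb') hdq (Or.inl ⟨⟨s, hs⟩, ⟨t, ht⟩, fun h => hst (congrArg Subtype.val h)⟩)
  refine ⟨x, ?_, ?_, dvd_index_of_sylow fun Q => ?_, dvd_index_of_sylow hx2⟩
  · rintro rfl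
    exact hvx (by rw [mul_one, one_mul])
  · have h1 : x ∈ FixBN.OfBN.UU P U (QuotientGroup.mk (1 : K)) := hx.1
    obtain ⟨k, hk⟩ := IsPGroup.iff_orderOf.1 (FixBN.OfBN.isP h (QuotientGroup.mk (1 : K))) ⟨x, h1⟩
    exact ⟨k, by rw [← hk, Subgroup.orderOf_mk]⟩
  · by_contra hcon
    push Not at hcon
    have hQc : ∀ g ∈ Q, g • c = c := fun g hg => smul_eq_of_comm S hx (hcon g hg)
    have h1 : (Q : Subgroup K) ≤ S.U c := S.max c Q Q.isPGroup' hQc
    have h2 : S.U c = Q := Q.is_maximal' (S.isP c) h1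
    have h3 : v ∈ (Q : Subgroup K) := by rw [← h2]; exact hv
    exact hvx (hcon v h3)

/-- **Lie type groups other than `PSL₂`: all pairs of primes.** -/
theorem exists_uni {p q : ℕ} (hp : p.Prime) (hq : q.Prime) (hr : r.Prime) (hpq : p ≠ q)
    (h : IsLieTypeChar r K) (hdp : p ∣ Nat.card K) (hdq : q ∣ Nat.card K)
    (h2 : (p ≠ r ∧ q ≠ r) ∨ ¬ IsLTwoChar r K) :
    ∃ x : K, x ≠ 1 ∧ (∃ k, orderOf x = r ^ k) ∧ p ∣ (centralizer ({x} : Set K)).index ∧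
      q ∣ (centralizer ({x} : Set K)).index := by
  rcases h2 with h2 | h2
  · exact exists_uni_of_lie hp hq hr hpq h hdp hdq (Or.inl h2)
  rcases table hr h with h1 | h1 | h1
  · have : Fact p.Prime := ⟨hp⟩
    have : Fact q.Prime := ⟨hq⟩
    have : Fact r.Prime := ⟨hr⟩
    by_cases hpr : p = r
    · subst hpr
      exact exists_uni_char2 h1 (Ne.symm hpq) hdq
    · by_cases hqr : q = r
      · subst hqr
        obtain ⟨x, h1, h2, h3, h4⟩ := exists_uni_char2 h1 hpq hdp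
        exact ⟨x, h1, h2, h4, h3⟩
      · exact exists_uni_of_lie hp hq hr hpq h hdp hdq (Or.inl ⟨hpr, hqr⟩)
  · exact exists_uni_of_lie hp hq hr hpq h hdp hdq (Or.inr h1)
  · exact absurd h1 h2

end Cfsg.Agent.H730.RankTwo
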