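import Cfsg.Agent.H730.PairRed
import Cfsg.Agent.H730.AltPair
import Cfsg.Agent.H730.RankTwo
import Cfsg.Agent.H690.LieGood
import Cfsg.Agent.H690.LieRow
import Cfsg.Agent.H254.CopAlt
import Cfsg.Agent.H254.CopSpor
import Cfsg.Agent.OddHalf.Known
import Cfsg.Agent.S0254
import Cfsg.Agent.H679.XRowPSL
import Cfsg.Agent.H519.XPsu
import Cfsg.Agent.H680.XRowTwF4
import Cfsg.Agent.H410.GRowPSL
import Cfsg.Agent.H410.GRowSz
import Cfsg.Agent.H410.GRowRee
import Cfsg.Agent.H189.XRowPSp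
import Cfsg.Agent.H189.XOrthFam
import Cfsg.Agent.H138.XExc
import Cfsg.Agent.H138.XTw

/-!
# The rows of S4938: assembly (helper730)

`SporRest` : the rows of the sporadic groups and the Tits group; `rows : SporRest → (CFSG) → Rows`.
-/

set_option autoImplicit false
set_option linter.unusedSectionVars false

namespace Cfsg.Agent.H730.PairAsm

open Cfsg Subgroup
open Cfsg.Agent.H713 Cfsg.Agent.H730.Pair Cfsg.Agent.H730.PairRed Cfsg.Agent.H730.RankTwo

universe u

/-! ### Reductions -/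

theorem gRow_of_xRow {r : ℕ} [Fact r.Prime] {S : Type u} [Group S] [Finite S] [IsSimpleGroup S]
    (h : IsLieTypeChar r S) (hx : XRow r S) : GRow S := by
  intro hc p hp hd
  obtain ⟨x, h1, h2, h3⟩ := hx hc
  exact ⟨x, H690.LieGood.vz_of_hasSplit (H690.LieRow.hasSplit Fact.out h) h1, h2, h3 p hp hd⟩

theorem not_hasCop_of_copTriv {S : Type u} [Group S] [Finite S] (h : H254.CopTriv S) : ¬ HasCop S := by
  rintro ⟨t, ht, hd, α, hα⟩
  have h1 : Nat.card (zpowers α) = t := by rw [Nat.card_zpowers, hα]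
  have h2 := h (zpowers α) (by rw [h1]; exact (Nat.Prime.coprime_iff_not_dvd ht).2 hd)
  rw [h2, card_bot] at h1
  exact ht.one_lt.ne h1

theorem gRow_of_copTriv {S : Type u} [Group S] [Finite S] (h : H254.CopTriv S) : GRow S :=
  GRow.of_not (not_hasCop_of_copTriv h)

/-- The rows of the sporadic groups and the Tits group. -/
structure SporRest : Prop where
  spor : ∀ (K : Type u) [Group K] [Finite K] [IsSimpleGroup K], IsSporadicGroup K → PairRow K
  tits : ∀ (K : Type u) [Group K] [Finite K] [IsSimpleGroup K], Lie.IsoTits K → PairRow K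

theorem gRow_lie {r : ℕ} (hr : r.Prime) {K : Type u} [Group K] [Finite K] [IsSimpleGroup K]
    (h : IsLieTypeChar r K) : GRow K := by
  have : Fact r.Prime := ⟨hr⟩
  have h0 := h
  rcases h with h | h | h | h | h | h | h | h | h | h | h
  · obtain ⟨F, _, _, _, n, hn, h4, ⟨e⟩⟩ := h
    rcases eq_or_lt_of_le hn with rfl | hn
    · exact (H410.GRowPSL.grow_psl (h4 rfl)).mulEquiv e.symm
    · have := e.symm.isSimpleGroup
      exact gRow_of_xRow h0 ((H679.XRowPSL.xRow_psl hn).mulEquiv e.symm)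
  · obtain ⟨F, _, _, _, m, hm, -, ⟨e⟩⟩ := h
    have := e.symm.isSimpleGroup
    exact gRow_of_xRow h0 ((H189.XRowPSp.xRow_psp hm).mulEquiv e.symm)
  · obtain ⟨F, _, _, _, n, q, hF, hn, -, ⟨e⟩⟩ := h
    have := e.symm.isSimpleGroup
    exact gRow_of_xRow h0 ((H519.XPsu.xRow_psu hF hn).mulEquiv e.symm)
  · obtain ⟨F, _, _, _, m, hm, hodd, ⟨e⟩⟩ := h
    have := e.symm.isSimpleGroup
    exact gRow_of_xRow h0 ((H189.XOrthFam.xRow_po_odd hm hodd).mulEquiv e.symm)
  · obtain ⟨F, _, _, _, m, hm, ⟨e⟩⟩ := h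
    have := e.symm.isSimpleGroup
    exact gRow_of_xRow h0 ((H189.XOrthFam.xRow_po_plus hm).mulEquiv e.symm)
  · obtain ⟨F, _, _, _, m, a, b, hm, hab, ⟨e⟩⟩ := h
    have := e.symm.isSimpleGroup
    exact gRow_of_xRow h0 ((H189.XOrthFam.xRow_po_minus hm a b hab).mulEquiv e.symm)
  · exact gRow_of_xRow h0 (H138.XExc.xRow_exc h)
  · exact gRow_of_xRow h0 (H138.XTw.xRow_tw h)
  · exact H410.GRowSz.grow_suzuki h.2
  · obtain ⟨rfl, h⟩ := h
    exact gRow_of_xRow h0 (H680.XRowTwF4.xRow_tf4 h)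
  · exact H410.GRowRee.grow_ree h.2

theorem pairRow_lie {r : ℕ} (hr : r.Prime) {K : Type u} [Group K] [Finite K] [IsSimpleGroup K]
    (h : IsLieTypeChar r K) : PairRow K := by
  have : Fact r.Prime := ⟨hr⟩
  have hvz : ∀ x : K, x ≠ 1 → (∃ k, orderOf x = r ^ k) → VZ K x := by
    rintro x hx ⟨k, hk⟩
    refine H690.LieGood.vz_of_hasSplit (H690.LieRow.hasSplit hr h) ?_
    rw [hk]
    refine dvd_pow_self _ ?_
    rintro rfl
    rw [pow_zero] at hk
    exact hx (orderOf_eq_one_iff.1 hk)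
  intro p q hp hq hpq hdp hdq
  by_cases h2 : (p ≠ r ∧ q ≠ r) ∨ ¬ IsLTwoChar r K
  · obtain ⟨x, h1, h2, h3, h4⟩ := exists_uni hp hq hr hpq h hdp hdq h2
    exact ⟨x, hvz x h1 h2, h3, h4⟩
  · push Not at h2
    obtain ⟨h3, F, _, _, _, h4, ⟨e⟩⟩ := h2
    have h5 : ∀ q : ℕ, q.Prime → q ≠ r → q ∣ Nat.card K → ∃ x : K, VZ K x ∧
        r ∣ (centralizer ({x} : Set K)).index ∧ q ∣ (centralizer ({x} : Set K)).index := by
      intro q hq hqr hdq
      exact ((H410.GRowPSL.rrow_psl r h4 : H410.GRowAbs.RRow r (Matrix.ProjectiveSpecialLinearGroup (Fin 2) F)).mulEquiv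
        e.symm) q hq hdq
    by_cases hpr : p = r
    · subst hpr
      exact h5 q hq (Ne.symm hpq) hdq
    · have hqr : q = r := h3 hpr
      subst hqr
      obtain ⟨x, h6, h7, h8⟩ := h5 p hp hpq hdp
      exact ⟨x, h6, h8, h7⟩

theorem gRow_alt {n : ℕ} (hn : 5 ≤ n) : GRow (alternatingGroup (Fin n)) := by
  rcases eq_or_ne n 6 with rfl | h6
  · have : Fact (Nat.Prime 3) := ⟨Nat.prime_three⟩
    let F := GaloisField 3 2
    have hfin : Fintype F := Fintype.ofFinite F
    have h9 : Fintype.card F = 9 := by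
      rw [← Nat.card_eq_fintype_card, GaloisField.card 3 2 (by norm_num)]
      norm_num
    obtain ⟨e⟩ := S0254.result (F := F) h9
    exact (H410.GRowPSL.grow_psl (by omega)).mulEquiv e
  · exact gRow_of_copTriv (H254.Alt.copTriv hn h6)

/-- **All rows.** -/
theorem rows (R' : SporRest.{u})
    (hS : ∀ (X : Type u) [Group X] [Finite X] [IsSimpleGroup X], IsKnownSimple' X) : Rows.{u} where
  pair S _ _ _ hna := by
    have h := hS S
    have hna' : ¬ IsMulCommutative S := by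
      obtain ⟨a, b, hab⟩ := hna
      intro h
      exact hab (h.is_comm.comm a b)
    rcases Cfsg.Agent.OddHalf.Known.classify' hna' h with h | h | h | h
    · obtain ⟨n, hn, ⟨e⟩⟩ := h
      exact (AltPair.pairRow_alt hn).mulEquiv e.symm
    · obtain ⟨p, hp, h⟩ := h
      exact pairRow_lie hp h
    · exact R'.tits S h
    · exact R'.spor S h
  g S _ _ _ hna := by
    have h := hS S
    have hna' : ¬ IsMulCommutative S := by
      obtain ⟨a, b, hab⟩ := hna
      intro h
      exact hab (h.is_comm.comm a b)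
    rcases Cfsg.Agent.OddHalf.Known.classify' hna' h with h | h | h | h
    · obtain ⟨n, hn, ⟨e⟩⟩ := h
      exact (gRow_alt hn).mulEquiv e.symm
    · obtain ⟨p, hp, h⟩ := h
      exact gRow_lie hp h
    · exact gRow_of_copTriv (H254.CopSpor.tits_triv h)
    · exact gRow_of_copTriv (H254.CopSpor.sporadic_triv h)

end Cfsg.Agent.H730.PairAsm
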