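import Cfsg.Agent.H730.RowP
import Cfsg.Agent.H690.Van
import Cfsg.Agent.SignalizersComponents.CentSylowFStar
import Cfsg.Agent.Transfer.NormalPComplement
import Cfsg.Agent.Transfer.PNilpotentBasic
import Cfsg.Agent.LieRecognition.FT61.O3

/-!
# Reduction of S5008 to simple groups (helper730)

`HypP p G` : `p` divides the class size of no vanishing element of `G`.  If every non-abelian
simple group `S` of order divisible by `p` has `RowP S p`, then a finite group with `HypP p G` has
a normal `p`-complement and abelian Sylow `p`-subgroups.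
-/

set_option autoImplicit false
set_option linter.dupNamespace false

namespace Cfsg.Agent.H730

open Cfsg Cfsg.Agent.H713 Subgroup Cfsg.Agent.H690.Van Cfsg.Agent.Characters

universe u v

/-- `p` divides the class size of no vanishing element. -/
def HypP (p : ℕ) (G : Type*) [Group G] : Prop :=
  ∀ x : G, Van G x → ¬ p ∣ (centralizer ({x} : Set G)).index

theorem index_centralizer_map_dvd {G H : Type*} [Group G] [Group H] (f : G →* H)
    (hf : Function.Surjective f) (x : G) :
    (centralizer ({f x} : Set H)).index ∣ (centralizer ({x} : Set G)).index := by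
  have h1 : (centralizer ({x} : Set G)).map f ≤ centralizer ({f x} : Set H) := by
    rintro _ ⟨g, hg, rfl⟩
    have hg' := mem_centralizer_singleton_iff.1 hg
    rw [mem_centralizer_singleton_iff, ← map_mul, ← map_mul, hg']
  exact (index_dvd_of_le h1).trans (index_map_dvd _ hf)

theorem HypP.of_surjective {p : ℕ} {G H : Type*} [Group G] [Group H] (f : G →* H)
    (hf : Function.Surjective f) (h : HypP p G) : HypP p H := by
  intro y hy
  obtain ⟨x, rfl⟩ := hf y
  exact fun hd => h x (hy.of_surjective f hf) (hd.trans (index_centralizer_map_dvd f hf x))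

/-- The class size in a normal subgroup. -/
theorem index_centralizer_dvd {G : Type*} [Group G] [Finite G] (N : Subgroup G) [N.Normal]
    (x : N) : (centralizer ({x} : Set N)).index ∣ (centralizer ({(x : G)} : Set G)).index := by
  have h : centralizer ({x} : Set N) = (centralizer ({(x : G)} : Set G)).subgroupOf N := by
    ext g
    rw [mem_subgroupOf, mem_centralizer_singleton_iff, mem_centralizer_singleton_iff]
    exact Subtype.ext_iff
  rw [h]
  exact Cfsg.Agent.Lib.GoldschmidtFusion.relIndex_dvd_index_of_normal_right _ _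

/-- The class size in a normal subgroup of a normal subgroup. -/
theorem index_centralizer_dvd' {G : Type*} [Group G] [Finite G] (N T : Subgroup G) [N.Normal]
    (hT : T ≤ N) (hTn : N ≤ normalizer (T : Set G)) (x : T) :
    (centralizer ({x} : Set T)).index ∣ (centralizer ({(x : G)} : Set G)).index := by
  have h1 := index_centralizer_dvd N ⟨x, hT x.2⟩
  refine dvd_trans ?_ h1
  have : (T.subgroupOf N).Normal := (normal_subgroupOf_iff_le_normalizer hT).2 hTn
  have h2 := index_centralizer_dvd (T.subgroupOf N) ⟨⟨x, hT x.2⟩, by rw [mem_subgroupOf]; exact x.2⟩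
  have h3 := index_centralizer_mulEquiv (subgroupOfEquivOfLe hT)
    ⟨⟨x, hT x.2⟩, by rw [mem_subgroupOf]; exact x.2⟩
  rw [← h3] at h2
  exact h2

/-- A group acting on the irreducible characters of an abelian normal subgroup `A`: if `A` is not
central there is a vanishing element which does not centralize `A`. -/
theorem le_center_of_van {G : Type u} [Group G] [Finite G] (A : Subgroup G) [A.Normal]
    (hA : ∀ a ∈ A, ∀ b ∈ A, a * b = b * a)
    (h : ∀ g : G, Van G g → ∀ a ∈ A, g * a = a * g) : A ≤ center G := by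
  classical
  have hAn : A.Normal := inferInstance
  by_contra hcon
  obtain ⟨a, ha, hac⟩ := SetLike.not_le_iff_exists.1 hcon
  obtain ⟨g, hg⟩ : ∃ g : G, g * a * g⁻¹ ≠ a := by
    by_contra hcon2
    push Not at hcon2
    exact hac (mem_center_iff.2 fun g => mul_inv_eq_iff_eq_mul.1 (hcon2 g))
  -- a character of `A` which distinguishes `a` and `g a g⁻¹`
  let a1 : A := ⟨a, ha⟩
  let a2 : A := ⟨g * a * g⁻¹, hAn.conj_mem a ha g⟩
  have hne : a2 * a1⁻¹ ≠ 1 := by
    intro h1
    apply hg
    have := mul_inv_eq_one.1 h1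
    exact congrArg Subtype.val this
  obtain ⟨θ, hθ⟩ := exists_ne hne
  have hcommA : ∀ x y : A, x * y = y * x := fun x y => Subtype.ext (hA x x.2 y y.2)
  have hcen : ∀ x : A, x ∈ center A := fun x => mem_center_iff.2 fun y => hcommA y x
  have hθne : (θ : A → ℂ) a2 ≠ (θ : A → ℂ) a1 := by
    intro h1
    apply hθ
    have h2 := central_mul θ (hcen (a2 * a1⁻¹)) a1
    rw [inv_mul_cancel_right, h1] at h2
    have h3 : (θ : A → ℂ) a1 ≠ 0 := by
      intro h0
      exact absurd (h1.trans h0) (by
        have h4 := central_mul θ (hcen a1) a1⁻¹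
        intro _
        rw [mul_inv_cancel, h0, zero_div, zero_mul] at h4
        exact Core.isIrr_apply_one_ne_zero θ.2 h4)
    have h5 : (θ : A → ℂ) (a2 * a1⁻¹) / (θ : A → ℂ) 1 = 1 :=
      mul_right_cancel₀ h3 (h2.symm.trans (one_mul _).symm)
    exact (div_eq_one_iff_eq (Core.isIrr_apply_one_ne_zero θ.2)).1 h5
  -- the stabilizer of `θ`
  let T : Subgroup G := Cfsg.Agent.H686.CharKit.inertia A θ
  have hT : ∀ g : G, g ∈ T ↔ ∀ n : A, (θ : A → ℂ) ⟨g * n * g⁻¹, hAn.conj_mem (n : G) n.2 g⟩ =
      (θ : A → ℂ) n := by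
    intro g
    rw [Cfsg.Agent.H686.CharKit.mem_inertia A (θ := θ)]
    constructor
    · intro h n
      exact h n ⟨_, hAn.conj_mem (n : G) n.2 g⟩ rfl
    · intro h n n' hn'
      have h2 : n' = ⟨g * n * g⁻¹, hAn.conj_mem (n : G) n.2 g⟩ := Subtype.ext hn'
      rw [h2]
      exact h n
  have hTtop : T ≠ ⊤ := by
    intro h1
    have : g ∈ T := by rw [h1]; exact mem_top g
    exact hθne ((hT g).1 this a1)
  obtain ⟨x, hx⟩ := Cfsg.Agent.LieRecognition.FT61.O3.exists_not_conj T hTtop
  have hvan : Vn x := Vn.of_not_inertia A (θ : A → ℂ) θ.2 x (fun g hg => by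
    have h1 : g * x * g⁻¹ ∈ T := (hT _).2 hg
    exact hx g⁻¹ (by simpa using h1))
  have h1 : x ∈ T := by
    rw [hT]
    intro n
    have h2 : (⟨x * (n : G) * x⁻¹, hAn.conj_mem (n : G) n.2 x⟩ : A) = n := by
      apply Subtype.ext
      show x * (n : G) * x⁻¹ = n
      rw [mul_inv_eq_iff_eq_mul]
      exact h x hvan n n.2
    rw [h2]
  exact hx 1 (by simpa using h1)

/-- A normal `p`-subgroup is centralized by the elements whose class size is prime to `p`. -/
theorem commute_of_not_dvd {G : Type u} [Group G] [Finite G] {p : ℕ} [hp : Fact p.Prime]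
    (A : Subgroup G) [A.Normal] (hA : IsPGroup p A) {g : G}
    (hg : ¬ p ∣ (centralizer ({g} : Set G)).index) : ∀ a ∈ A, g * a = a * g := by
  have h1 := Cfsg.Agent.Lib.GoldschmidtFusion.relIndex_dvd_index_of_normal_right
    (centralizer ({g} : Set G)) A
  obtain ⟨n, hn⟩ := IsPGroup.iff_card.1 hA
  have h2 : (centralizer ({g} : Set G)).relIndex A ∣ p ^ n := hn ▸ relIndex_dvd_card _ _
  have h3 : (centralizer ({g} : Set G)).relIndex A = 1 := by
    obtain ⟨k, -, hk⟩ := (Nat.dvd_prime_pow hp.out).1 h2
    rcases Nat.eq_zero_or_pos k with rfl | hk0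
    · rw [hk, pow_zero]
    · exact absurd ((dvd_pow_self p hk0.ne').trans (hk ▸ h1)) hg
  rw [relIndex_eq_one] at h3
  intro a ha
  exact (mem_centralizer_singleton_iff.1 (h3 ha)).symm

/-- Two normal subgroups: the class size of a component. -/
theorem not_hypP_of_minimal {G : Type u} [Group G] [Finite G] {p : ℕ} (hp : p.Prime)
    (N : Subgroup G) [N.Normal]
    (hmin : ∀ M : Subgroup G, M.Normal → M ≤ N → M = ⊥ ∨ M = N)
    (hna : ¬ ∀ x ∈ N, ∀ y ∈ N, Commute x y) (hpN : p ∣ Nat.card N)
    (hrow : ∀ (S : Type u) [Group S] [Finite S] [IsSimpleGroup S], (∃ a b : S, a * b ≠ b * a) →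
      p ∣ Nat.card S → RowP S p) : ¬ HypP p G := by
  classical
  obtain ⟨m, T, e, hm, hsimple, hTna, hTinj, hTN, hTn, hconj, htrans, he, hcoord⟩ :=
    Cfsg.Agent.PermutationGroups.OnanScott.exists_coordinates N hmin hna
  set o : Fin m := ⟨0, hm⟩ with ho
  choose g hg using fun i => htrans o i
  have hcard : Nat.card N = Nat.card (T o) ^ m := by
    rw [Nat.card_congr e.toEquiv, Nat.card_pi]
    rw [Finset.prod_congr rfl fun i _ => (Nat.card_congr (conjIso (g i) (hg i)).toEquiv).symm]
    simp
  have hpT : p ∣ Nat.card (T o) := hp.dvd_of_dvd_pow (hcard ▸ hpN)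
  have h0 : RowP (T o) p := by
    have := hsimple o
    exact hrow _ (hTna _) hpT
  obtain ⟨x, ⟨θ, hθ⟩, hx⟩ := h0
  intro hH
  have := Fintype.ofFinite (T o)
  let Θ : N → ℂ := fun n => ∏ i, (θ : T o → ℂ) ((conjIso (g i) (hg i)).symm (e n i))
  have hΘ : IsIrrCharacter N Θ := by
    have h1 := isIrr_pi (ι := Fin m) θ.2
    let E : N ≃* (Fin m → T o) := e.trans (MulEquiv.piCongrRight fun i => (conjIso (g i) (hg i)).symm)
    exact Core.isIrr_comp (E : N →* (Fin m → T o)) E.surjective h1
  obtain ⟨χ, hχ⟩ := exists_lift N hΘ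
  have hvan : ∀ n : N, e n o = x → Van G (n : G) := by
    intro n hn
    refine ⟨χ, hχ n fun k => ?_⟩
    obtain ⟨j, hj⟩ := hconj k o
    refine Finset.prod_eq_zero (Finset.mem_univ j) ?_
    have h1 := coord_conj e hTN he hcoord k o j hj n
    have h2 : e (MulAut.conjNormal k n) j = conjIso k hj x := by
      apply Subtype.ext
      rw [h1, conjIso_apply, hn]
    rw [h2]
    exact hθ ((conjIso k hj).trans (conjIso (g j) (hg j)).symm)
  have hxv : Van G (x : G) := by
    have := hvan (e.symm (Pi.mulSingle o x)) (by simp)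
    rwa [he] at this
  exact hH _ hxv (hx.trans (index_centralizer_dvd' N (T o) (hTN o) (hTn o) x))

/-- **The reduction, first half.** -/
theorem hasNormalPComplement_of_rows {p : ℕ} [hp : Fact p.Prime]
    (hrow : ∀ (S : Type u) [Group S] [Finite S] [IsSimpleGroup S], (∃ a b : S, a * b ≠ b * a) →
      p ∣ Nat.card S → RowP S p) :
    ∀ (n : ℕ) (G : Type u) [Group G] [Finite G], Nat.card G ≤ n → HypP p G →
      HasNormalPComplement p G := by
  intro n
  induction n with
  | zero =>
    intro G _ _ hn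
    have := Nat.card_pos (α := G)
    omega
  | succ n ih =>
    intro G _ _ hn hG
    by_cases htriv : Subsingleton G
    · exact Cfsg.Agent.Transfer.PNilpotentBasic.hnc_of_isPGroup
        (IsPGroup.of_card (n := 0) (by rw [pow_zero]; exact Nat.card_unique))
    rw [not_subsingleton_iff_nontrivial] at htriv
    have hquot : ∀ (K : Subgroup G) [K.Normal], K ≠ ⊥ → HasNormalPComplement p (G ⧸ K) := by
      intro K hK hK1
      refine ih (G ⧸ K) ?_ (hG.of_surjective (QuotientGroup.mk' K) (QuotientGroup.mk'_surjective K))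
      have h1 := Subgroup.card_eq_card_quotient_mul_card_subgroup K
      have h2 : 1 < Nat.card K := by
        rw [Subgroup.one_lt_card_iff_ne_bot]
        exact hK1
      have h3 := Nat.card_pos (α := G ⧸ K)
      have h4 : Nat.card (G ⧸ K) * 2 ≤ Nat.card (G ⧸ K) * Nat.card K := Nat.mul_le_mul_left _ h2
      omega
    obtain ⟨N, hN, hNne, hNmin⟩ : ∃ N : Subgroup G, N.Normal ∧ N ≠ ⊥ ∧
        ∀ M : Subgroup G, M.Normal → M ≤ N → M = ⊥ ∨ M = N := by
      have hfin : {T : Subgroup G | T.Normal ∧ T ≠ ⊥}.Finite := Set.toFinite _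
      have hne : {T : Subgroup G | T.Normal ∧ T ≠ ⊥}.Nonempty := ⟨⊤, inferInstance, top_ne_bot⟩
      obtain ⟨T, ⟨hT0, hTn⟩, hTmin⟩ := hfin.exists_minimal hne
      refine ⟨T, hT0, hTn, fun S hS hST => ?_⟩
      by_cases hS0 : S = ⊥
      · exact Or.inl hS0
      · exact Or.inr (le_antisymm hST (hTmin ⟨hS, hS0⟩ hST))
    by_cases hpN : p ∣ Nat.card N
    · by_cases hna : ∀ x ∈ N, ∀ y ∈ N, Commute x y
      · -- `N` is an abelian `p`-group
        let M : Subgroup G :=
          { carrier := {a | a ∈ N ∧ a ^ p = 1}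
            mul_mem' := fun {a b} ha hb => ⟨mul_mem ha.1 hb.1, by
              rw [(hna a ha.1 b hb.1).mul_pow, ha.2, hb.2, mul_one]⟩
            one_mem' := ⟨one_mem _, one_pow _⟩
            inv_mem' := fun {a} ha => ⟨inv_mem ha.1, by rw [inv_pow, ha.2, inv_one]⟩ }
        have hMn : M.Normal := ⟨fun a ha g => ⟨hN.conj_mem a ha.1 g, by
          rw [conj_pow, ha.2, mul_one, mul_inv_cancel]⟩⟩
        have hMN : M = N := by
          refine (hNmin M hMn fun a ha => ha.1).resolve_left fun hbot => ?_
          obtain ⟨y, hy⟩ := exists_prime_orderOf_dvd_card' (G := N) p hpN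
          have h1 : (y : G) ∈ M := ⟨y.2, by
            rw [← hy, ← Subgroup.orderOf_coe]; exact pow_orderOf_eq_one _⟩
          rw [hbot, mem_bot] at h1
          have h2 : y = 1 := Subtype.ext h1
          rw [h2, orderOf_one] at hy
          exact hp.out.one_lt.ne hy
        have hNp : IsPGroup p N := by
          intro a
          refine ⟨1, Subtype.ext ?_⟩
          have h1 : (a : G) ∈ M := by rw [hMN]; exact a.2
          simpa using h1.2
        have hcen : N ≤ center G := le_center_of_van N (fun a ha b hb => hna a ha b hb)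
          fun g hg => commute_of_not_dvd N hNp (hG g hg)
        refine Cfsg.Agent.SignalizersComponents.CentSylowFStar.hasNormalPComplement_of_central
          (QuotientGroup.mk' N) (QuotientGroup.mk'_surjective N) ?_ ?_ (hquot N hNne)
        · rw [QuotientGroup.ker_mk']
          exact hNp
        · intro z hz g
          rw [QuotientGroup.ker_mk'] at hz
          exact mem_center_iff.1 (hcen hz) g
      · exact absurd hG (not_hypP_of_minimal hp.out N hNmin hna hpN hrow)
    · exact Cfsg.Agent.Transfer.NormalPComplement.of_quotient N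
        ((Nat.Prime.coprime_iff_not_dvd hp.out).2 hpN).symm (hquot N hNne)

/-- A `p`-group with `HypP` is commutative. -/
theorem comm_of_isPGroup {p : ℕ} [hp : Fact p.Prime] {G : Type u} [Group G] [Finite G]
    (h : IsPGroup p G) (hG : HypP p G) (a b : G) : a * b = b * a := by
  have : Group.IsNilpotent G := h.isNilpotent
  have h1 : a ∈ center G := by
    by_contra hcon
    have h2 := hG a (Vn.of_nilpotent hcon)
    obtain ⟨n, hn⟩ := IsPGroup.iff_card.1 h
    have h3 : (centralizer ({a} : Set G)).index ∣ p ^ n := hn ▸ index_dvd_card _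
    obtain ⟨k, -, hk⟩ := (Nat.dvd_prime_pow hp.out).1 h3
    have h4 : (centralizer ({a} : Set G)).index = 1 := by
      rcases Nat.eq_zero_or_pos k with rfl | hk0
      · rw [hk, pow_zero]
      · exact absurd (hk ▸ dvd_pow_self p hk0.ne') h2
    rw [index_eq_one] at h4
    apply hcon
    rw [mem_center_iff]
    intro g
    have h5 : g ∈ centralizer ({a} : Set G) := by rw [h4]; exact mem_top g
    exact mem_centralizer_singleton_iff.1 h5
  exact (mem_center_iff.1 h1 b).symm

/-- **The reduction of S5008 to simple groups.** -/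
theorem main_of_rows {p : ℕ} [hp : Fact p.Prime]
    (hrow : ∀ (S : Type u) [Group S] [Finite S] [IsSimpleGroup S], (∃ a b : S, a * b ≠ b * a) →
      p ∣ Nat.card S → RowP S p) {G : Type u} [Group G] [Finite G] (hG : HypP p G) :
    HasNormalPComplement p G ∧ ∀ P : Sylow p G, IsMulCommutative (P : Subgroup G) := by
  have h1 := hasNormalPComplement_of_rows hrow _ G le_rfl hG
  refine ⟨h1, fun P => ?_⟩
  obtain ⟨N, hN, hNP⟩ := Cfsg.Agent.Transfer.NormalPComplement.exists_of_sylow h1 P
  have h2 : HypP p (G ⧸ N) := hG.of_surjective (QuotientGroup.mk' N) (QuotientGroup.mk'_surjective N)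
  have h3 : IsPGroup p (G ⧸ N) := by
    obtain ⟨n, hn⟩ := IsPGroup.iff_card.1 P.isPGroup'
    refine IsPGroup.of_card (n := n) ?_
    rw [← hn, ← index_eq_card]
    exact hNP.symm.index_eq_card
  refine ⟨⟨fun a b => ?_⟩⟩
  have h4 := comm_of_isPGroup h3 h2 ((a : G) : G ⧸ N) ((b : G) : G ⧸ N)
  rw [← QuotientGroup.mk_mul, ← QuotientGroup.mk_mul, QuotientGroup.eq] at h4
  have h5 : ((a : G) * b)⁻¹ * (b * a) ∈ N ⊓ (P : Subgroup G) :=
    ⟨h4, Subgroup.mul_mem _ (Subgroup.inv_mem _ (Subgroup.mul_mem _ a.2 b.2))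
      (Subgroup.mul_mem _ b.2 a.2)⟩
  rw [hNP.disjoint.eq_bot, mem_bot] at h5
  exact Subtype.ext (inv_mul_eq_one.1 h5)

end Cfsg.Agent.H730
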