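import Cfsg.Agent.H730.PairRow
import Cfsg.Agent.H730.Col
import Cfsg.Agent.H730.Red
import Cfsg.Agent.S0144

/-!
# Reduction of S4938 to simple groups: the coordinates of a minimal normal subgroup (helper730)
-/

set_option autoImplicit false
set_option linter.unusedSectionVars false

namespace Cfsg.Agent.H730.PairCrd

open Cfsg Cfsg.Agent.H713 Cfsg.Agent.H716.VanRed Cfsg.Agent.H730 Cfsg.Agent.H730.Pair Cfsg.Agent.H730.Col Subgroup

universe u

/-- Burnside: two primes different from a given number. -/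
theorem exists_two_primes {S : Type*} [Group S] [Finite S] [IsSimpleGroup S] (h : ∃ a b : S, a * b ≠ b * a)
    (c : ℕ) : ∃ r r' : ℕ, r.Prime ∧ r'.Prime ∧ r ≠ r' ∧ r ∣ Nat.card S ∧ r' ∣ Nat.card S ∧ r ≠ c ∧ r' ≠ c := by
  obtain ⟨r, hr, hrd, hrc⟩ := exists_prime_ne h c
  by_contra hcon
  push Not at hcon
  have hall : ∀ r' : ℕ, r'.Prime → r' ∣ Nat.card S → r' = r ∨ r' = c := by
    intro r' hr' hd
    by_contra h1
    push Not at h1
    exact h1.2 (hcon r r' hr hr' (Ne.symm h1.1) hrd hd hrc)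
  have hn0 : Nat.card S ≠ 0 := Nat.card_pos.ne'
  have hfac : Nat.card S = r ^ (Nat.card S).factorization r * c ^ (Nat.card S).factorization c := by
    conv_lhs => rw [← Nat.prod_factorization_pow_eq_self hn0]
    rw [Finsupp.prod, ← Finset.prod_pair (f := fun s => s ^ (Nat.card S).factorization s) hrc]
    refine Finset.prod_subset ?_ ?_
    · intro s hs
      rw [Nat.support_factorization, Nat.mem_primeFactors] at hs
      rcases hall s hs.1 hs.2.1 with rfl | rfl <;> simp
    · intro s _ hs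
      rw [Finsupp.notMem_support_iff] at hs
      rw [hs, pow_zero]
  have hsol : Group.IsSolvable S := by
    by_cases hc : c.Prime
    · exact Cfsg.Agent.S0144.result r c _ _ hr hc hfac
    · rw [Nat.factorization_eq_zero_of_not_prime _ hc, pow_zero, mul_one] at hfac
      exact Cfsg.Agent.S0144.result r r ((Nat.card S).factorization r) 0 hr hr (by rw [pow_zero, mul_one]; exact hfac)
  obtain ⟨a, b, hab⟩ := h
  exact hab (IsSimpleGroup.comm_iff_isSolvable.2 hsol a b)

theorem injective_four {s r1 r2 : ℕ} (h1 : 1 < r1) (h2 : 1 < r2) (h12 : r1 ≠ r2) (h1s : r1 ≠ s) (h2s : r2 ≠ s)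
    (hs1 : s ≠ 1) : Function.Injective (![s, r1, r2, 1] : Fin 4 → ℕ) := by
  intro a b hab
  fin_cases a <;> fin_cases b <;> first | rfl | (exfalso; simp at hab; omega)

section crd

variable {G : Type u} [Group G] [Finite G] {m : ℕ} {N : Subgroup G} [N.Normal] {T : Fin m → Subgroup G}
  {e : N ≃* (∀ i, T i)}

/-- the class size of a coordinate divides the class size -/
theorem index_coord_dvd (e : N ≃* (∀ i, T i)) (n : N) (i : Fin m) :
    (centralizer ({e n i} : Set (T i))).index ∣ (centralizer ({(n : G)} : Set G)).index := by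
  have h1 := index_centralizer_map_dvd ((Pi.evalMonoidHom (fun i => T i) i).comp e.toMonoidHom)
    (fun t => ⟨e.symm (Pi.mulSingle i t), by
      show e (e.symm (Pi.mulSingle i t)) i = t
      rw [e.apply_symm_apply, Pi.mulSingle_eq_same]⟩) n
  exact h1.trans (index_centralizer_dvd N n)

/-- an element of `N` with coordinate `s` at `x` and prescribed colours -/
theorem exists_colored (C : Crd N T e) {x : Fin m} (s : T x) (hs : s ≠ 1) (col : Fin m → Fin 4) (hx : col x = 0) :
    ∃ n : N, e n x = s ∧ ∀ i j, orderOf (e n i) = orderOf (e n j) → col i = col j := by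
  classical
  have hsimple := C.simple x
  obtain ⟨r1, r2, h1, h2, h12, hd1, hd2, h1s, h2s⟩ := exists_two_primes (C.na x) (orderOf s)
  have hs1 : orderOf s ≠ 1 := fun h => hs (orderOf_eq_one_iff.1 h)
  let ord : Fin 4 → ℕ := ![orderOf s, r1, r2, 1]
  have hinj : Function.Injective ord := injective_four h1.one_lt h2.one_lt h12 h1s h2s hs1
  have ht : ∀ j, ∃ t : T j, orderOf t = ord (col j) := by
    intro j
    obtain ⟨a, ha⟩ := C.trans x j
    have hcardj : Nat.card (T j) = Nat.card (T x) := (Nat.card_congr (conjIso a ha).toEquiv).symm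
    have f1 : Fact r1.Prime := ⟨h1⟩
    have f2 : Fact r2.Prime := ⟨h2⟩
    rcases h : col j with ⟨k, hk⟩
    rcases k with _ | _ | _ | _ | k
    · exact ⟨conjIso a ha s, by rw [MulEquiv.orderOf_eq]; rfl⟩
    · exact exists_prime_orderOf_dvd_card' r1 (by rwa [hcardj])
    · exact exists_prime_orderOf_dvd_card' r2 (by rwa [hcardj])
    · exact ⟨1, orderOf_one⟩
    · omega
  choose t ht using ht
  refine ⟨e.symm (Function.update t x s), by rw [e.apply_symm_apply, Function.update_self], ?_⟩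
  have ho : ∀ j, orderOf (e (e.symm (Function.update t x s)) j) = ord (col j) := by
    intro j
    rw [e.apply_symm_apply]
    rcases eq_or_ne j x with rfl | hj
    · rw [Function.update_self, hx]; rfl
    · rw [Function.update_of_ne hj, ht]
  intro i j hij
  rw [ho, ho] at hij
  exact hinj hij

/-- elements centralising the factors centralise `N` -/
theorem mem_centralizer_of_forall (C : Crd N T e) {u : G} (h1 : ∀ i, u ∈ centralizer (T i : Set G)) :
    u ∈ centralizer (N : Set G) := by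
  rw [Subgroup.mem_centralizer_iff]
  intro x hx
  have h2 : MulAut.conjNormal u (⟨x, hx⟩ : N) = ⟨x, hx⟩ := by
    apply e.injective
    funext i
    have h3 : (T i).map (MulAut.conj u).toMonoidHom = T i := by
      ext y
      constructor
      · rintro ⟨z, hz, rfl⟩
        show u * z * u⁻¹ ∈ T i
        rw [← Subgroup.mem_centralizer_iff.1 (h1 i) z hz, mul_inv_cancel_right]
        exact hz
      · intro hy
        refine ⟨y, hy, ?_⟩
        show u * y * u⁻¹ = y
        rw [← Subgroup.mem_centralizer_iff.1 (h1 i) y hy, mul_inv_cancel_right]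
    apply Subtype.ext
    rw [coord_conj e C.le C.sgl C.coord u i i h3.symm, ← Subgroup.mem_centralizer_iff.1 (h1 i) _ (e ⟨x, hx⟩ i).2,
      mul_inv_cancel_right]
  have h3 : u * x * u⁻¹ = x := congrArg Subtype.val h2
  exact (mul_inv_eq_iff_eq_mul.1 h3).symm

theorem mem_normalizer_of_map {A : Subgroup G} {u : G} (h : A.map (MulAut.conj u).toMonoidHom = A) :
    u ∈ normalizer (A : Set G) := by
  rw [Subgroup.mem_normalizer_iff]
  intro y
  conv_rhs => rw [← h]
  constructor
  · intro hy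
    exact ⟨y, hy, rfl⟩
  · rintro ⟨z, hz, e1⟩
    have : z = y := (MulAut.conj u).injective e1
    exact this ▸ hz

/-- a `p`-element normalising `T x` and centralising `n` centralises `T x`, if the coordinate is generic -/
theorem mem_centralizer_of_gen (C : Crd N T e) {p : ℕ} [hp : Fact p.Prime] {x : Fin m}
    (hpT : ¬ p ∣ Nat.card (T x)) {n : N} (hgen : Gen (T x) (e n x)) {u : G} {k : ℕ} (hk : u ^ p ^ k = 1)
    (hu : (T x).map (MulAut.conj u).toMonoidHom = T x) (hun : u * n = n * u) : u ∈ centralizer (T x : Set G) := by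
  by_contra hgc
  have hgn := mem_normalizer_of_map hu
  set ρ : normalizer (T x : Set G) →* MulAut (T x) := (T x).normalizerMonoidHom with hρ
  have hρa : ∀ (h : normalizer (T x : Set G)) (z : T x), ((ρ h z : T x) : G) = h * z * (h : G)⁻¹ :=
    fun h z => rfl
  set α0 := ρ ⟨u, hgn⟩ with hα0
  have h1 : α0 ≠ 1 := by
    intro h
    apply hgc
    rw [Subgroup.mem_centralizer_iff]
    intro z hz
    have h2 := hρa ⟨u, hgn⟩ ⟨z, hz⟩
    rw [← hα0, h] at h2
    have h3 : z = u * z * u⁻¹ := h2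
    exact (eq_mul_inv_iff_mul_eq.1 h3)
  have h2 : α0 ^ p ^ k = 1 := by
    rw [hα0, ← map_pow]
    have : (⟨u, hgn⟩ : normalizer (T x : Set G)) ^ p ^ k = 1 := by
      apply Subtype.ext
      rw [SubmonoidClass.coe_pow, Subgroup.coe_one, hk]
    rw [this, map_one]
  obtain ⟨j, -, hj⟩ := (Nat.dvd_prime_pow hp.1).1 (orderOf_dvd_of_pow_eq_one h2)
  have hj0 : j ≠ 0 := by
    rintro rfl
    rw [pow_zero, orderOf_eq_one_iff] at hj
    exact h1 hj
  obtain ⟨l, rfl⟩ := Nat.exists_eq_succ_of_ne_zero hj0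
  have h3 : orderOf (α0 ^ p ^ l) = p := by
    rw [orderOf_pow_of_dvd (pow_ne_zero _ hp.1.ne_zero) (by rw [hj]; exact pow_dvd_pow _ (Nat.le_succ l)), hj]
    rw [Nat.succ_eq_add_one, pow_succ, Nat.mul_div_cancel_left _ (pow_pos hp.1.pos _)]
  refine hgen p hp.1 hpT _ h3 ?_
  -- `u` fixes the coordinate
  have h4 : α0 (e n x) = e n x := by
    apply Subtype.ext
    rw [hα0, hρa]
    show u * (e n x : G) * u⁻¹ = e n x
    rw [← coord_conj e C.le C.sgl C.coord u x x hu.symm n]
    have h5 : MulAut.conjNormal u n = n := by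
      apply Subtype.ext
      rw [MulAut.conjNormal_apply, hun, mul_inv_cancel_right]
    rw [h5]
  have h5 : ∀ j : ℕ, (α0 ^ j) (e n x) = e n x := by
    intro j
    induction j with
    | zero => rfl
    | succ j ih => rw [pow_succ, MulAut.mul_apply, h4, ih]
  exact h5 _

/-- **The outer case.** -/
theorem dvd_of_out (C : Crd N T e) {p : ℕ} [hp : Fact p.Prime] (hC : centralizer (N : Set G) = ⊥)
    (hpG : p ∣ Nat.card G) {x : Fin m} (hpT : ¬ p ∣ Nat.card (T x))
    (hfix : ∀ (g : G) (k : ℕ), g ^ p ^ k = 1 → ∀ i, (T i).map (MulAut.conj g).toMonoidHom = T i)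
    {n : N} (hgen : Gen (T x) (e n x)) : p ∣ (centralizer ({(n : G)} : Set G)).index := by
  by_contra hcon
  obtain ⟨Q, hQ⟩ := exists_sylow_le hcon
  have hpel : ∀ (P : Sylow p G) (u : G), u ∈ P → ∃ k, u ^ p ^ k = 1 := by
    intro P u hu
    obtain ⟨k, hk⟩ := P.2 ⟨u, hu⟩
    exact ⟨k, congrArg Subtype.val hk⟩
  -- `Q` centralises `T x`
  have h1 : (Q : Subgroup G) ≤ centralizer (T x : Set G) := by
    intro u hu
    obtain ⟨k, hk⟩ := hpel Q u hu
    exact mem_centralizer_of_gen C hpT hgen hk (hfix u k hk x) (mem_centralizer_singleton_iff.1 (hQ hu))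
  -- all Sylow subgroups centralise `T x`
  have hnor : ∀ P : Sylow p G, (P : Subgroup G) ≤ normalizer (T x : Set G) := by
    intro P u hu
    obtain ⟨k, hk⟩ := hpel P u hu
    exact mem_normalizer_of_map (hfix u k hk x)
  have h2 : ∀ P : Sylow p G, (P : Subgroup G) ≤ centralizer (T x : Set G) := by
    intro P
    obtain ⟨b, hb⟩ := MulAction.exists_smul_eq ↥(normalizer (T x : Set G)) (Q.subtype (hnor Q)) (P.subtype (hnor P))
    intro y hy
    have h3 : (⟨y, hnor P hy⟩ : normalizer (T x : Set G)) ∈ (b • Q.subtype (hnor Q) : Sylow p _) := by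
      rw [hb]
      exact hy
    obtain ⟨z, hz, hzy⟩ := h3
    have hz' : (z : G) ∈ Q := hz
    have hzy' : (b : G) * z * (b : G)⁻¹ = y := congrArg Subtype.val hzy
    rw [← hzy', Subgroup.mem_centralizer_iff]
    intro t ht
    have h4 : (b : G)⁻¹ * t * b ∈ T x := by
      have h5 := (Subgroup.mem_normalizer_iff.1 b.2 ((b : G)⁻¹ * t * b)).2
      apply h5
      have h6 : (b : G) * ((b : G)⁻¹ * t * b) * (b : G)⁻¹ = t := by group
      rw [h6]
      exact ht
    have h5 := Subgroup.mem_centralizer_iff.1 (h1 hz') _ h4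
    calc t * ((b : G) * z * (b : G)⁻¹) = b * (((b : G)⁻¹ * t * b) * z) * (b : G)⁻¹ := by group
      _ = b * (z * ((b : G)⁻¹ * t * b)) * (b : G)⁻¹ := by rw [h5]
      _ = _ := by group
  -- all Sylow subgroups centralise all factors
  have h3 : (Q : Subgroup G) ≤ centralizer (N : Set G) := by
    intro u hu
    refine mem_centralizer_of_forall C fun j => ?_
    obtain ⟨a, ha⟩ := C.trans x j
    have h4 : a⁻¹ * u * a ∈ ((a⁻¹ • Q : Sylow p G) : Subgroup G) := by
      rw [Sylow.coe_subgroup_smul]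
      refine ⟨u, hu, ?_⟩
      show a⁻¹ * u * (a⁻¹)⁻¹ = _
      rw [inv_inv]
    have h5 := Subgroup.mem_centralizer_iff.1 (h2 _ h4)
    rw [Subgroup.mem_centralizer_iff]
    intro t ht
    have ht' : t ∈ T j := ht
    rw [ha] at ht'
    obtain ⟨z, hz, rfl⟩ := ht'
    have h6 := h5 z hz
    show a * z * a⁻¹ * u = u * (a * z * a⁻¹)
    calc a * z * a⁻¹ * u = a * (z * (a⁻¹ * u * a)) * a⁻¹ := by group
      _ = a * ((a⁻¹ * u * a) * z) * a⁻¹ := by rw [h6]
      _ = _ := by group
  rw [hC] at h3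
  have h4 := Q.dvd_card_of_dvd_card hpG
  rw [le_bot_iff.1 h3, Subgroup.card_bot] at h4
  exact hp.1.one_lt.ne' (Nat.dvd_one.1 h4)

/-- in the outer case there is a coprime automorphism of the factors -/
theorem hasCop_of_out (C : Crd N T e) {p : ℕ} [hp : Fact p.Prime] (hC : centralizer (N : Set G) = ⊥)
    (hpG : p ∣ Nat.card G) {x : Fin m} (hpT : ¬ p ∣ Nat.card (T x))
    (hfix : ∀ (g : G) (k : ℕ), g ^ p ^ k = 1 → ∀ i, (T i).map (MulAut.conj g).toMonoidHom = T i) :
    HasCop (T x) := by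
  obtain ⟨g, hg⟩ := exists_prime_orderOf_dvd_card' p hpG
  have hg1 : g ∉ centralizer (N : Set G) := by
    rw [hC, Subgroup.mem_bot]
    rintro rfl
    rw [orderOf_one] at hg
    exact hp.1.one_lt.ne hg
  have hgp : g ^ p ^ 1 = 1 := by rw [pow_one, ← hg, pow_orderOf_eq_one]
  obtain ⟨i, hi⟩ : ∃ i, g ∉ centralizer (T i : Set G) := by
    by_contra hcon
    push Not at hcon
    exact hg1 (mem_centralizer_of_forall C hcon)
  have hgn := mem_normalizer_of_map (hfix g 1 hgp i)
  set ρ : normalizer (T i : Set G) →* MulAut (T i) := (T i).normalizerMonoidHom with hρ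
  have h1 : ρ ⟨g, hgn⟩ ≠ 1 := by
    intro h
    apply hi
    rw [Subgroup.mem_centralizer_iff]
    intro z hz
    have h3 : ((ρ ⟨g, hgn⟩ ⟨z, hz⟩ : T i) : G) = g * z * g⁻¹ := rfl
    rw [h] at h3
    have h4 : z = g * z * g⁻¹ := h3
    exact (eq_mul_inv_iff_mul_eq.1 h4)
  have h2 : ρ ⟨g, hgn⟩ ^ p = 1 := by
    rw [← map_pow]
    have : (⟨g, hgn⟩ : normalizer (T i : Set G)) ^ p = 1 := by
      apply Subtype.ext
      rw [SubmonoidClass.coe_pow, Subgroup.coe_one, ← pow_one p, hgp]
    rw [this, map_one]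
  obtain ⟨a, ha⟩ := C.trans i x
  refine HasCop.mulEquiv (conjIso a ha) ⟨p, hp.1, ?_, ρ ⟨g, hgn⟩, orderOf_eq_prime h2 h1⟩
  rwa [Nat.card_congr (conjIso a ha).toEquiv]

end crd

end Cfsg.Agent.H730.PairCrd
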